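import Cfsg.Agent.Lib.Lie.JankoSylow.Shape
import Cfsg.Agent.Lib.Fusion.Product.Direct
import Cfsg.Agent.Lib.Fusion.Cores
import Cfsg.Agent.Lib.Char.IsolatedBase

/-!
With `z` central, the centraliser of `p` has a normal subgroup `A E`, `E` its odd core.
-/

set_option autoImplicit false
set_option linter.style.haveILetI false
set_option linter.unusedSectionVars false

namespace Cfsg.Agent.Lie.JankoSylow

open Cfsg.Agent.Fusion (SylIn)

universe u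

theorem odd_fix {G : Type u} [Group G] {n x c : G} (hn : Odd (orderOf n)) (hc : n * c * n⁻¹ = c)
    (hcc : c * c = 1) (h : n * x * n⁻¹ = x * c) : c = 1 := by
  have hk : ∀ k : ℕ, n ^ k * x * (n ^ k)⁻¹ = x * c ^ k := by
    intro k
    induction k with
    | zero => simp
    | succ k ih =>
      rw [pow_succ', mul_inv_rev, show n * n ^ k * x * ((n ^ k)⁻¹ * n⁻¹) = n * (n ^ k * x * (n ^ k)⁻¹) * n⁻¹ by group,
        ih, show n * (x * c ^ k) * n⁻¹ = (n * x * n⁻¹) * (n * c ^ k * n⁻¹) by group, h, ← conj_pow, hc, mul_assoc,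
        ← pow_succ']
  obtain ⟨j, hj⟩ := hn
  have h1 := hk (orderOf n)
  rw [pow_orderOf_eq_one, one_mul, inv_one, mul_one, hj, pow_succ, pow_mul, _root_.sq c, hcc, one_pow, one_mul] at h1
  exact left_eq_mul.1 h1

/-- the odd part and the two-part of an element -/
theorem exists_parts {G : Type u} [Group G] [Finite G] (g : G) :
    ∃ y d : G, g = y * d ∧ IsPGroup 2 (Subgroup.zpowers y) ∧ Odd (orderOf d) ∧
      y ∈ Subgroup.zpowers g ∧ d ∈ Subgroup.zpowers g := by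
  obtain ⟨k, m, hm, hkm⟩ := Nat.exists_eq_two_pow_mul_odd (n := orderOf g) (orderOf_pos g).ne'
  obtain ⟨a, b, hab⟩ : ∃ a b : ℤ, a * (2 : ℤ) ^ k + b * (m : ℤ) = 1 := by
    have hco : IsCoprime ((2 : ℤ) ^ k) (m : ℤ) := by
      have := (Nat.coprime_two_left.2 hm).pow_left k
      exact_mod_cast (Nat.Coprime.cast (R := ℤ) this)
    exact hco
  refine ⟨g ^ (b * (m : ℤ)), g ^ (a * (2 : ℤ) ^ k), ?_, ?_, ?_, ⟨_, rfl⟩, ⟨_, rfl⟩⟩
  · rw [← zpow_add, add_comm, hab, zpow_one]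
  · intro ⟨x, hx⟩
    obtain ⟨j, rfl⟩ := Subgroup.mem_zpowers_iff.1 hx
    refine ⟨k, Subtype.ext ?_⟩
    show ((g ^ (b * (m : ℤ))) ^ j) ^ (2 ^ k) = 1
    rw [← zpow_natCast, ← zpow_mul, ← zpow_mul]
    refine orderOf_dvd_iff_zpow_eq_one.1 ?_
    rw [hkm]
    exact ⟨b * j, by push_cast; ring⟩
  · refine hm.of_dvd_nat (orderOf_dvd_of_pow_eq_one ?_)
    rw [← zpow_natCast, ← zpow_mul]
    refine orderOf_dvd_iff_zpow_eq_one.1 ?_
    rw [hkm]
    exact ⟨a, by push_cast; ring⟩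

variable {H : Type u} [Group H] [Finite H] (K : Ctx H)

namespace Ctx

/-- the centraliser of `p` -/
def Cp : Subgroup H := Subgroup.centralizer ({K.p} : Set H)

theorem mem_Cp {h : H} : h ∈ K.Cp ↔ Commute h K.p := Subgroup.mem_centralizer_singleton_iff

theorem A_le_Cp : K.A ≤ K.Cp := fun _ hx => K.mem_Cp.2 (K.A_iff.1 hx).2

theorem A_two : IsPGroup 2 K.A := K.S.2.to_le K.A_le

variable (hz : ∀ h : H, Commute K.g.z h)
include hz

theorem fix_z (h : H) : h * K.g.z * h⁻¹ = K.g.z := by rw [← (hz h).eq, mul_inv_cancel_right]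

theorem A_max {T : Subgroup H} (hT : IsPGroup 2 T) (hAT : K.A ≤ T) (hTC : T ≤ K.Cp) : T = K.A := by
  haveI : Fact (Nat.Prime 2) := ⟨Nat.prime_two⟩
  obtain ⟨x, -, hx⟩ := (Fusion.sylIn_top K.S).conj_le hT le_top
  have hpT : K.p ∈ T := hAT K.p_facts.2.1
  have hw : x * K.p * x⁻¹ ∈ (K.S : Subgroup H) := hx ⟨K.p, hpT, rfl⟩
  have hwZ : x * K.p * x⁻¹ ∉ K.Z := fun hmem => by
    rcases K.Z_iff.1 hmem with e | e
    · exact K.p_facts.2.2.2.2 (K.Z_iff.2 (Or.inl (conj_eq_one_iff.1 e)))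
    · refine K.p_facts.2.2.2.2 (K.Z_iff.2 (Or.inr ?_))
      rw [← fix_z K hz x] at e
      exact mul_left_cancel (mul_right_cancel e)
  have hcard : ∀ U : Subgroup H, U ≤ T → Nat.card (Fusion.cj U x) = Nat.card U := fun U _ => Fusion.card_cj U x
  refine (Subgroup.eq_of_le_of_card_ge hAT ?_).symm
  rw [K.card_facts.2.1]
  obtain ⟨k, hk⟩ := IsPGroup.iff_card.1 hT
  have hle : Nat.card T ∣ 128 := by
    rw [← K.card_S, ← hcard T le_rfl]
    exact Subgroup.card_dvd_of_le hx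
  by_contra hlt
  push Not at hlt
  rw [hk] at hle hlt
  have hk7 : k ≤ 7 := (Nat.pow_dvd_pow_iff_le_right (by norm_num)).1 (show 2 ^ k ∣ 2 ^ 7 by simpa using hle)
  have hk6 : 6 < k := (Nat.pow_lt_pow_iff_right (by norm_num)).1 (show 2 ^ 6 < 2 ^ k by simpa using hlt)
  obtain rfl : k = 7 := by omega
  have hS : Fusion.cj T x = (K.S : Subgroup H) :=
    Subgroup.eq_of_le_of_card_ge hx (by rw [hcard T le_rfl, hk, K.card_S]; norm_num)
  refine hwZ (K.central hw fun y hy => ?_)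
  rw [← hS] at hy
  obtain ⟨t, ht, rfl⟩ := hy
  show Commute (x * K.p * x⁻¹) (x * t * x⁻¹)
  exact (Commute.conj_iff x).2 (K.mem_Cp.1 (hTC ht)).symm

theorem sylA : SylIn 2 K.A K.Cp := by
  haveI : Fact (Nat.Prime 2) := ⟨Nat.prime_two⟩
  obtain ⟨T, hT, hAT⟩ := Fusion.exists_sylIn_ge K.A_two K.A_le_Cp
  exact A_max K hz hT.isPGroup hAT hT.le ▸ hT

theorem two_elt_mem {y : H} (hy2 : IsPGroup 2 (Subgroup.zpowers y)) (hyC : y ∈ K.Cp)
    (hn : ∀ a ∈ K.A, y * a * y⁻¹ ∈ K.A) : y ∈ K.A := by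
  haveI : Fact (Nat.Prime 2) := ⟨Nat.prime_two⟩
  have hyN : y ∈ Subgroup.normalizer (K.A : Set H) :=
    Fusion.mem_normalizer_of_cj_le fun _ ⟨a, ha, e⟩ => e ▸ hn a ha
  have hT : IsPGroup 2 ↥(Subgroup.zpowers y ⊔ K.A) :=
    hy2.to_sup_of_normal_right' K.A_two (Subgroup.zpowers_le.2 hyN)
  have := A_max K hz hT le_sup_right (sup_le (Subgroup.zpowers_le.2 hyC) K.A_le_Cp)
  exact this ▸ Subgroup.mem_sup_left (Subgroup.mem_zpowers y)

theorem fix_ZA {n : H} (hn : n ∈ K.Cp) {x : H} (hx : x ∈ K.ZA) : n * x * n⁻¹ = x := by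
  have hp : n * K.p * n⁻¹ = K.p := mul_inv_eq_iff_eq_mul.2 (K.mem_Cp.1 hn).eq
  rcases K.ZA_iff.1 hx with rfl | rfl | rfl | rfl
  · group
  · exact fix_z K hz n
  · exact hp
  · rw [← conj_mul, hp, fix_z K hz n]

theorem pres {n : H} (hn : n ∈ K.Cp) (hA : ∀ a ∈ K.A, n * a * n⁻¹ ∈ K.A) :
    (∀ q ∈ K.Q ⊓ K.A, n * q * n⁻¹ ∈ K.Q ⊓ K.A) ∧ ∀ q ∈ K.P1, n * q * n⁻¹ ∈ K.P1 := by
  constructor
  · rintro q ⟨hqQ, hqA⟩
    refine ⟨(K.Q_in_A (hA q hqA)).2 ?_, hA q hqA⟩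
    rcases (K.Q_in_A hqA).1 hqQ with h | h
    · exact Or.inl (by rw [fix_ZA K hz hn h]; exact h)
    · refine Or.inr ?_
      rw [conj_mul, h, fix_z K hz n]
  · intro q hq
    obtain ⟨hqA, h⟩ := K.P1_iff.1 hq
    refine K.P1_iff.2 ⟨hA q hqA, ?_⟩
    rcases h with h | h
    · exact Or.inl (by rw [fix_ZA K hz hn h]; exact h)
    · refine Or.inr ?_
      rw [conj_mul, h, fix_ZA K hz hn K.p_facts.1]

/-- an element of odd order centralising one four-group modulo the centre centralises `A` -/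
theorem odd_central {n : H} (hn : n ∈ K.Cp) (hA : ∀ a ∈ K.A, n * a * n⁻¹ ∈ K.A) (hodd : Odd (orderOf n))
    {B : Subgroup H} (hBA : B ≤ K.A) (hcent : ∀ x ∈ K.A, (∀ y ∈ B, Commute x y) → x ∈ K.ZA)
    (hmod : ∀ q ∈ B, q⁻¹ * (n * q * n⁻¹) ∈ K.ZA) (hnormB : ∀ a ∈ K.A, ∀ q ∈ B, a * q * a⁻¹ ∈ B)
    {a : H} (ha : a ∈ K.A) : n * a * n⁻¹ = a := by
  have hB : ∀ q ∈ B, n * q * n⁻¹ = q := fun q hq => by
    have h1 := odd_fix (x := q) hodd (fix_ZA K hz hn (hmod q hq)) (K.ZA_facts (hmod q hq)).2.2.1 (by group)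
    exact (inv_mul_eq_one.1 h1).symm
  have hd : a⁻¹ * (n * a * n⁻¹) ∈ K.ZA := by
    refine hcent _ (K.A.mul_mem (K.A.inv_mem ha) (hA a ha)) fun q hq => ?_
    have h1 : n * a * n⁻¹ * q * (n * a * n⁻¹)⁻¹ = a * q * a⁻¹ := by
      conv_lhs => rw [← hB q hq]
      rw [← hB _ (hnormB a ha q hq)]
      group
    show a⁻¹ * (n * a * n⁻¹) * q = q * (a⁻¹ * (n * a * n⁻¹))
    calc a⁻¹ * (n * a * n⁻¹) * q = a⁻¹ * (n * a * n⁻¹ * q * (n * a * n⁻¹)⁻¹) * (n * a * n⁻¹) := by group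
      _ = a⁻¹ * (a * q * a⁻¹) * (n * a * n⁻¹) := by rw [h1]
      _ = _ := by group
  have h1 := odd_fix (x := a) hodd (fix_ZA K hz hn hd) (K.ZA_facts hd).2.2.1 (by group)
  exact (inv_mul_eq_one.1 h1).symm

theorem normB {B : Subgroup H} (hB : K.ZA ≤ B) (hBA : B ≤ K.A) :
    ∀ a ∈ K.A, ∀ q ∈ B, a * q * a⁻¹ ∈ B := fun a ha q hq => by
  have := B.mul_mem (hB ((K.A_sq ha).2 q (hBA hq))) hq
  simpa [mul_assoc] using this

/-- the odd core of `C(p)` -/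
def Ep : Subgroup H := (Cfsg.oddCore ↥K.Cp).map K.Cp.subtype

theorem Ep_le : K.Ep ≤ K.Cp := Subgroup.map_subtype_le _

theorem Ep_odd : Odd (Nat.card K.Ep) := by
  rw [Ep, Subgroup.card_map_of_injective K.Cp.subtype_injective]
  exact StrongProd.oddCore_odd _

theorem Ep_conj {h : H} (hh : h ∈ Subgroup.normalizer (K.Cp : Set H)) {e : H} (he : e ∈ K.Ep) :
    h * e * h⁻¹ ∈ K.Ep :=
  (Subgroup.mem_normalizer_iff.1 (LocBal.normalizer_le_map_core (p := 2) K.Cp hh) e).1 he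

theorem Ep_inter {e : H} (he : e ∈ K.Ep) (hS : IsPGroup 2 (Subgroup.zpowers e)) : e = 1 := by
  haveI : Fact (Nat.Prime 2) := ⟨Nat.prime_two⟩
  obtain ⟨k, hk⟩ := IsPGroup.iff_card.1 hS
  rw [Nat.card_zpowers] at hk
  have h1 : orderOf e ∣ Nat.card K.Ep := Subgroup.orderOf_dvd_natCard _ he
  rw [← orderOf_eq_one_iff, hk]
  rcases k with _ | k
  · rfl
  · exact absurd ((Ep_odd K hz).of_dvd_nat (hk ▸ h1)) (by rw [pow_succ, Nat.not_odd_iff_even]; exact even_two.mul_left _)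

/-- `A E` is normal in `C(p)`, and the elements of odd order centralising `A` lie in `E` -/
theorem structure_Cp :
    (∀ h ∈ K.Cp, ∃ l n : H, l ∈ K.A ⊔ K.Ep ∧ n ∈ K.Cp ∧ (∀ a ∈ K.A, n * a * n⁻¹ ∈ K.A) ∧ h = l * n) ∧
      ∀ y ∈ K.Cp, Odd (orderOf y) → (∀ a ∈ K.A, y * a * y⁻¹ = a) → y ∈ K.Ep := by
  classical
  haveI : Fact (Nat.Prime 2) := ⟨Nat.prime_two⟩
  let C := K.Cp
  haveI : (Cfsg.oddCore ↥C).Normal := StrongProd.oddCore_normal _
  let X0 := ↥C ⧸ Cfsg.oddCore ↥C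
  let m0 : ↥C →* X0 := QuotientGroup.mk' _
  let Z0 : Subgroup X0 := (K.ZA.subgroupOf C).map m0
  have hZ0c : ∀ k ∈ Z0, ∀ x : X0, k * x = x * k := by
    rintro _ ⟨k, hk, rfl⟩ x
    obtain ⟨x, rfl⟩ := QuotientGroup.mk'_surjective _ x
    show m0 k * m0 x = m0 x * m0 k
    rw [← map_mul, ← map_mul]
    exact congrArg m0 (Subtype.ext (mul_inv_eq_iff_eq_mul.1 (fix_ZA K hz x.2 hk)).symm)
  haveI : Z0.Normal := ⟨fun k hk x => by rwa [← hZ0c k hk x, mul_inv_cancel_right]⟩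
  let X := X0 ⧸ Z0
  let f : ↥C →* X := (QuotientGroup.mk' Z0).comp m0
  have hf : Function.Surjective f := (QuotientGroup.mk'_surjective _).comp (QuotientGroup.mk'_surjective _)
  have hO : Cfsg.oddCore X = ⊥ := by
    haveI : (Cfsg.oddCore X).Normal := StrongProd.oddCore_normal _
    obtain ⟨n, hn, hpow⟩ := StrongProd.exists_pow_odd Z0
    have h := StrongProd.le_of_central_odd (G := X0) (L := (Cfsg.oddCore X).comap (QuotientGroup.mk' Z0)) (K := Z0)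
      Fusion.pPrimeCore_quotient_eq_bot hn (fun x hx => hpow x hx) fun k _ hk x _ => hZ0c k hk x
    refine eq_bot_iff.2 fun x hx => ?_
    obtain ⟨x, rfl⟩ := QuotientGroup.mk'_surjective Z0 x
    exact Subgroup.mem_bot.2 ((QuotientGroup.eq_one_iff x).2 (h hx))
  have hker : ∀ h : ↥C, f h = 1 → ∃ ζ ∈ K.ZA, ∃ e ∈ K.Ep, (h : H) = ζ * e := by
    intro h hh
    obtain ⟨ζ, hζ, e⟩ := (QuotientGroup.eq_one_iff (m0 h)).1 hh
    refine ⟨ζ, hζ, ((ζ⁻¹ * h : ↥C) : H), ⟨_, QuotientGroup.eq.1 e, rfl⟩, ?_⟩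
    show (h : H) = (ζ : H) * ((ζ : H)⁻¹ * (h : H))
    group
  have hkerA : ∀ h : ↥C, (h : H) ∈ K.A → f h = 1 → (h : H) ∈ K.ZA := by
    intro h hA hh
    obtain ⟨ζ, hζ, e, he, heq⟩ := hker h hh
    have heA : e ∈ K.A := by
      have := K.A.mul_mem (K.A.inv_mem (K.ZA_facts hζ).1) hA
      rwa [heq, inv_mul_cancel_left] at this
    rw [heq, Ep_inter K hz he (K.A_two.to_le (Subgroup.zpowers_le.2 heA)), mul_one]
    exact hζ
  have hfZ : ∀ h : ↥C, (h : H) ∈ K.ZA → f h = 1 := fun h hh =>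
    (QuotientGroup.eq_one_iff (m0 h)).2 ⟨h, hh, rfl⟩
  obtain ⟨PA, hPA⟩ := (sylA K hz).exists_sylow_subgroupOf
  let T2 := PA.mapSurjective hf
  have hT2 : ∀ w, w ∈ (T2 : Subgroup X) ↔ ∃ a, ∃ ha : a ∈ K.A, f ⟨a, K.A_le_Cp ha⟩ = w := by
    intro w
    rw [Sylow.coe_mapSurjective, hPA]
    exact ⟨fun ⟨a, ha, e⟩ => ⟨a, ha, e⟩, fun ⟨a, ha, e⟩ => ⟨⟨a, K.A_le_Cp ha⟩, ha, e⟩⟩
  have hab : ∀ v ∈ (T2 : Subgroup X), ∀ w ∈ (T2 : Subgroup X), v * w = w * v := by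
    intro v hv w hw
    obtain ⟨a, ha, rfl⟩ := (hT2 v).1 hv
    obtain ⟨b, hb, rfl⟩ := (hT2 w).1 hw
    have h1 := hfZ ⟨a * b * a⁻¹ * b⁻¹, K.A_le_Cp (K.A.mul_mem (K.A.mul_mem (K.A.mul_mem ha hb) (K.A.inv_mem ha))
      (K.A.inv_mem hb))⟩ ((K.A_sq ha).2 b hb)
    rw [show (⟨a * b * a⁻¹ * b⁻¹, _⟩ : ↥C) = ⟨a, K.A_le_Cp ha⟩ * ⟨b, K.A_le_Cp hb⟩ * (⟨a, K.A_le_Cp ha⟩ : ↥C)⁻¹ *
      (⟨b, K.A_le_Cp hb⟩ : ↥C)⁻¹ from rfl, map_mul, map_mul, map_mul, map_inv, map_inv, mul_inv_eq_one,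
      mul_inv_eq_iff_eq_mul] at h1
    exact h1
  haveI : IsMulCommutative (T2 : Subgroup X) :=
    ⟨⟨fun v w => Subtype.ext (hab v v.2 w w.2)⟩⟩
  -- lifting normalising elements
  have lift : ∀ n : X, n ∈ Subgroup.normalizer ((T2 : Subgroup X) : Set X) → ∃ x : ↥C,
      (∀ a ∈ K.A, (x : H) * a * (x : H)⁻¹ ∈ K.A) ∧ f x * n⁻¹ ∈ (T2 : Subgroup X) := by
    intro n hn
    obtain ⟨x1, rfl⟩ := hf n
    let L := (T2 : Subgroup X).comap f
    haveI : Finite ↥C := inferInstance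
    have hAL : SylIn 2 (PA : Subgroup ↥C) L := by
      refine (Fusion.sylIn_top PA).mono (fun a ha => ?_) le_top
      show f a ∈ (T2 : Subgroup X)
      rw [Sylow.coe_mapSurjective]
      exact ⟨a, ha, rfl⟩
    have hx1 : x1 ∈ Subgroup.normalizer (L : Set ↥C) := by
      rw [Subgroup.mem_normalizer_iff]
      intro l
      show f l ∈ (T2 : Subgroup X) ↔ f (x1 * l * x1⁻¹) ∈ (T2 : Subgroup X)
      rw [map_mul, map_mul, map_inv]
      exact Subgroup.mem_normalizer_iff.1 hn (f l)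
    obtain ⟨k, hk, hke⟩ := (hAL.cj' hx1).conj_eq hAL
    refine ⟨k * x1, fun a ha => ?_, ?_⟩
    · have h1 : k * (x1 * ⟨a, K.A_le_Cp ha⟩ * x1⁻¹) * k⁻¹ ∈ (PA : Subgroup ↥C) :=
        hke.le ⟨_, ⟨⟨a, K.A_le_Cp ha⟩, hPA.ge ha, rfl⟩, rfl⟩
      rw [hPA] at h1
      have : (k : H) * ((x1 : H) * a * (x1 : H)⁻¹) * (k : H)⁻¹ ∈ K.A := h1
      show (k : H) * (x1 : H) * a * ((k : H) * (x1 : H))⁻¹ ∈ K.A
      simpa [mul_assoc] using this
    · rw [map_mul, mul_inv_cancel_right]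
      exact hk
  -- the two four-groups
  let W : Subgroup H → Subgroup X := fun B => (B.subgroupOf C).map f
  have hP0A : K.Q ⊓ K.A ≤ K.A := inf_le_right
  have hP1A : K.P1 ≤ K.A := fun q hq => (K.P1_iff.1 hq).1
  have hZP0 : K.ZA ≤ K.Q ⊓ K.A := fun x hx => ⟨(K.ZA_facts hx).2.1, (K.ZA_facts hx).1⟩
  have hZP1 : K.ZA ≤ K.P1 := fun x hx => K.P1_iff.2 ⟨(K.ZA_facts hx).1, Or.inl hx⟩
  have hW : ∀ {B : Subgroup H} {w : X}, B ≤ K.A → w ∈ W B → ∃ q ∈ B, ∃ hq : q ∈ C, f ⟨q, hq⟩ = w := by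
    rintro B w hB ⟨q, hq, rfl⟩
    exact ⟨q, hq, q.2, rfl⟩
  have hWle : ∀ {B : Subgroup H}, B ≤ K.A → W B ≤ (T2 : Subgroup X) := fun {B} hB w hw => by
    obtain ⟨q, hq, hqC, rfl⟩ := hW hB hw
    exact (hT2 _).2 ⟨q, hB hq, rfl⟩
  have hsc : ∀ {B : Subgroup H}, B ≤ K.A → (∀ n ∈ K.Cp, (∀ a ∈ K.A, n * a * n⁻¹ ∈ K.A) → ∀ q ∈ B, n * q * n⁻¹ ∈ B) →
      Cfsg.IsStronglyClosed (W B) (T2 : Subgroup X) := by
    intro B hB hpres
    refine ⟨hWle hB, fun w hw g hg => ?_⟩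
    obtain ⟨n, hn, e⟩ := T2.conj_eq_normalizer_conj_of_mem w g⁻¹ (hWle hB hw) (by rwa [inv_inv])
    rw [inv_inv] at e
    rw [e]
    obtain ⟨x, hx, hxn⟩ := lift n⁻¹ (inv_mem hn)
    rw [inv_inv] at hxn
    obtain ⟨q, hq, hqC, rfl⟩ := hW hB hw
    have hconj : f x * f ⟨q, hqC⟩ * (f x)⁻¹ = n⁻¹ * f ⟨q, hqC⟩ * n := by
      have hv : n⁻¹ * f ⟨q, hqC⟩ * n ∈ (T2 : Subgroup X) := by
        simpa using (Subgroup.mem_normalizer_iff.1 (inv_mem hn) _).1 (hWle hB hw)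
      have h1 := hab _ hxn _ hv
      calc f x * f ⟨q, hqC⟩ * (f x)⁻¹ = (f x * n) * (n⁻¹ * f ⟨q, hqC⟩ * n) * (f x * n)⁻¹ := by group
        _ = _ := by rw [h1, mul_inv_cancel_right]
    rw [← hconj, ← map_inv, ← map_mul, ← map_mul]
    exact ⟨_, hpres x x.2 hx q hq, rfl⟩
  have hsc0 := hsc hP0A fun n hn hA => (pres K hz hn hA).1
  have hsc1 := hsc hP1A fun n hn hA => (pres K hz hn hA).2
  have hd : W (K.Q ⊓ K.A) ⊓ W K.P1 = ⊥ := by
    refine eq_bot_iff.2 fun w hw => ?_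
    obtain ⟨q, hq, hqC, rfl⟩ := hW hP0A hw.1
    obtain ⟨y, hy, hyC, e⟩ := hW hP1A hw.2
    have h1 : f (⟨y, hyC⟩⁻¹ * ⟨q, hqC⟩) = 1 := by rw [map_mul, map_inv, e, inv_mul_cancel]
    have h2 := hkerA _ (K.A.mul_mem (K.A.inv_mem (hP1A hy)) hq.2) h1
    have h3 : y ∈ K.ZA := by
      refine K.P1_inter hy ?_
      have := K.Q.mul_mem hq.1 (K.Q.inv_mem (K.ZA_facts h2).2.1)
      simpa [mul_assoc] using this
    rw [Subgroup.mem_bot, ← e]
    exact hfZ _ h3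
  have hgen : W (K.Q ⊓ K.A) ⊔ W K.P1 = (T2 : Subgroup X) := by
    refine le_antisymm (sup_le (hWle hP0A) (hWle hP1A)) fun w hw => ?_
    obtain ⟨a, ha, rfl⟩ := (hT2 w).1 hw
    obtain ⟨y, hy, q, hqQ, hqA, rfl⟩ := K.A_split ha
    rw [show (⟨y * q, K.A_le_Cp ha⟩ : ↥C) = ⟨y, K.A_le_Cp (hP1A hy)⟩ * ⟨q, K.A_le_Cp hqA⟩ from rfl, map_mul]
    exact (W (K.Q ⊓ K.A) ⊔ W K.P1).mul_mem (Subgroup.mem_sup_right ⟨_, hy, rfl⟩)
      (Subgroup.mem_sup_left ⟨⟨q, K.A_le_Cp hqA⟩, ⟨hqQ, hqA⟩, rfl⟩)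
  -- each closure is its four-group
  have key : ∀ {B B' : Subgroup H}, B ≤ K.A → B' ≤ K.A → K.ZA ≤ B' →
      (∀ x ∈ K.A, (∀ y ∈ B', Commute x y) → x ∈ K.ZA) →
      Cfsg.IsStronglyClosed (W B) (T2 : Subgroup X) → Cfsg.IsStronglyClosed (W B') (T2 : Subgroup X) →
      W B ⊓ W B' = ⊥ → W B ⊔ W B' = (T2 : Subgroup X) →
      Subgroup.normalClosure (W B : Set X) = W B := by
    intro B B' hB hB' hZB' hcent hsB hsB' hdB hgB
    obtain ⟨hcomm, -, hSA, -⟩ := StrongProd.direct_product hO hsB hsB' hdB hgB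
    set N := Subgroup.normalClosure (W B : Set X) with hN
    haveI : N.Normal := Subgroup.normalClosure_normal
    have hBN : W B ≤ N := Subgroup.subset_normalClosure
    have hcN : ∀ n ∈ N, ∀ w ∈ W B', n * w = w * n := fun n hn w hw => by
      have := Subgroup.commutator_mem_commutator hn (Subgroup.subset_normalClosure (s := (W B' : Set X)) hw)
      rw [hcomm, Subgroup.mem_bot, commutatorElement_eq_one_iff_mul_comm] at this
      exact this
    have hT : SylIn 2 (W B) N := by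
      have h1 := (Fusion.sylIn_top T2).inf_normal (N := N) le_top (by rw [Subgroup.normalizer_eq_top])
      rwa [hSA] at h1
    have hfree : ∀ n ∈ N, n ∈ Subgroup.normalizer (W B : Set X) → ∀ w ∈ W B, n * w * n⁻¹ = w := by
      intro n hnN hn
      obtain ⟨y, d, hyd, hy2, hdo, hym, hdm⟩ := exists_parts n
      have hsub : Subgroup.zpowers n ≤ Subgroup.normalizer (W B : Set X) ⊓ N :=
        Subgroup.zpowers_le.2 ⟨hn, hnN⟩
      have hyW : y ∈ W B := by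
        have hT' : IsPGroup 2 ↥(Subgroup.zpowers y ⊔ W B) :=
          hy2.to_sup_of_normal_right' hT.isPGroup (Subgroup.zpowers_le.2 (hsub hym).1)
        have := hT.eq_of_le hT' le_sup_right (sup_le (Subgroup.zpowers_le.2 (hsub hym).2) hBN)
        exact this ▸ Subgroup.mem_sup_left (Subgroup.mem_zpowers y)
      obtain ⟨hdn, hdN⟩ := Subgroup.mem_inf.1 (hsub hdm)
      have hdT : d ∈ Subgroup.normalizer ((T2 : Subgroup X) : Set X) := by
        refine Fusion.mem_normalizer_of_cj_le ?_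
        rw [← hgB, Fusion.cj, Subgroup.map_sup]
        refine sup_le_sup ?_ ?_
        · rintro _ ⟨w, hw, rfl⟩
          exact (Subgroup.mem_normalizer_iff.1 hdn w).1 hw
        · rintro _ ⟨w, hw, rfl⟩
          show d * w * d⁻¹ ∈ W B'
          rwa [hcN d hdN w hw, mul_inv_cancel_right]
      obtain ⟨x, hx, hxd⟩ := lift d hdT
      have hact : ∀ w ∈ (T2 : Subgroup X), f x * w * (f x)⁻¹ = d * w * d⁻¹ := by
        intro w hw
        have h1 := hab _ hxd _ ((Subgroup.mem_normalizer_iff.1 hdT w).1 hw)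
        calc f x * w * (f x)⁻¹ = (f x * d⁻¹) * (d * w * d⁻¹) * (f x * d⁻¹)⁻¹ := by group
          _ = _ := by rw [h1, mul_inv_cancel_right]
      obtain ⟨y', d', hyd', hy2', hdo', hym', hdm'⟩ := exists_parts x
      have hxA : x ∈ (Subgroup.normalizer (K.A : Set H)).comap C.subtype :=
        Fusion.mem_normalizer_of_cj_le fun _ ⟨a, ha, e⟩ => e ▸ hx a ha
      have hmemN : ∀ v : ↥C, v ∈ Subgroup.zpowers x → ∀ a ∈ K.A, (v : H) * a * (v : H)⁻¹ ∈ K.A :=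
        fun v hv a ha => (Subgroup.mem_normalizer_iff.1 (Subgroup.zpowers_le.2 hxA hv) a).1 ha
      have hy'A : (y' : H) ∈ K.A := by
        refine two_elt_mem K hz ?_ y'.2 (hmemN y' hym')
        have := hy2'.map C.subtype
        rwa [MonoidHom.map_zpowers] at this
      have hfy : f y' ∈ (T2 : Subgroup X) := (hT2 _).2 ⟨_, hy'A, rfl⟩
      have hact' : ∀ w ∈ (T2 : Subgroup X), f d' * w * (f d')⁻¹ = d * w * d⁻¹ := by
        intro w hw
        have hv : f d' * w * (f d')⁻¹ ∈ (T2 : Subgroup X) := by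
          obtain ⟨a, ha, rfl⟩ := (hT2 w).1 hw
          rw [← map_inv, ← map_mul, ← map_mul]
          exact (hT2 _).2 ⟨_, hmemN d' hdm' a ha, rfl⟩
        rw [← hact w hw, hyd', map_mul]
        calc f d' * w * (f d')⁻¹ = f y' * (f d' * w * (f d')⁻¹) * (f y')⁻¹ := by
              rw [hab _ hfy _ hv, mul_inv_cancel_right]
          _ = _ := by group
      have hcentral := fun a ha => odd_central K hz (n := (d' : H)) d'.2 (hmemN d' hdm')
        (by rwa [Subgroup.orderOf_coe]) hB' hcent (fun q hq => by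
          have hmem : q⁻¹ * ((d' : H) * q * (d' : H)⁻¹) ∈ K.A :=
            K.A.mul_mem (K.A.inv_mem (hB' hq)) (hmemN d' hdm' q (hB' hq))
          refine hkerA ⟨_, K.A_le_Cp hmem⟩ hmem ?_
          let q' : ↥C := ⟨q, K.A_le_Cp (hB' hq)⟩
          show f (q'⁻¹ * (d' * q' * d'⁻¹)) = 1
          have hqW : f q' ∈ W B' := ⟨q', hq, rfl⟩
          rw [map_mul, map_mul, map_mul, map_inv, map_inv, hact' _ (hWle hB' hqW), hcN d hdN _ hqW,
            mul_inv_cancel_right, inv_mul_cancel]) (normB K hz hZB' hB') (a := a) ha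
      intro w hw
      obtain ⟨a, ha, haC, rfl⟩ := hW hB hw
      have hd1 : d * f ⟨a, haC⟩ * d⁻¹ = f ⟨a, haC⟩ := by
        rw [← hact' _ (hWle hB hw), ← map_inv, ← map_mul, ← map_mul]
        exact congrArg f (Subtype.ext (hcentral a (hB ha)))
      rw [hyd, mul_inv_rev, show y * d * f ⟨a, haC⟩ * (d⁻¹ * y⁻¹) = y * (d * f ⟨a, haC⟩ * d⁻¹) * y⁻¹ by group, hd1,
        hab y (hWle hB hyW) _ (hWle hB hw), mul_inv_cancel_right]
    obtain ⟨P, hP⟩ := hT.exists_sylow_subgroupOf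
    have hburn : Subgroup.normalizer ((P : Subgroup ↥N) : Set ↥N) ≤ Subgroup.centralizer ((P : Subgroup ↥N) : Set ↥N) := by
      intro v hv
      rw [Subgroup.mem_centralizer_iff]
      intro w hw
      rw [hP] at hv hw
      have hv' : (v : X) ∈ Subgroup.normalizer (W B : Set X) := by
        refine Fusion.mem_normalizer_of_cj_le ?_
        rintro _ ⟨u, hu, rfl⟩
        exact (Subgroup.mem_normalizer_iff.1 hv ⟨u, hBN hu⟩).1 hu
      exact Subtype.ext (mul_inv_eq_iff_eq_mul.1 (hfree v v.2 hv' w hw)).symm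
    let T := MonoidHom.transferSylow P hburn
    have h2 : ¬ 2 ∣ Nat.card T.ker := MonoidHom.not_dvd_card_ker_transferSylow P hburn
    have hbot : T.ker = ⊥ := by
      rw [eq_bot_iff, ← Char.oddCore_normal_eq_bot hO N]
      exact Fusion.le_pPrimeCore ((Nat.Prime.coprime_iff_not_dvd Nat.prime_two).2 h2).symm
    have htop : (P : Subgroup ↥N) = ⊤ := by
      have := MonoidHom.ker_transferSylow_isComplement' P hburn
      change Subgroup.IsComplement' T.ker _ at this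
      rwa [hbot, Subgroup.isComplement'_bot_left] at this
    refine le_antisymm (fun v hv => ?_) hBN
    have : (⟨v, hv⟩ : ↥N) ∈ (P : Subgroup ↥N) := htop ▸ Subgroup.mem_top _
    rw [hP] at this
    exact this
  have hN0 := key hP0A hP1A hZP1 (fun x hx h => K.cent_P1_mem hx h) hsc0 hsc1 hd hgen
  have hN1 := key hP1A hP0A hZP0 (fun x hx h => K.cent_AQ hx fun y hy hy' => h y ⟨hy, hy'⟩) hsc1 hsc0
    (by rw [inf_comm]; exact hd) (by rw [sup_comm]; exact hgen)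
  have hT2n : (T2 : Subgroup X).Normal := by
    rw [← hgen, ← hN0, ← hN1]
    exact Subgroup.sup_normal _ _
  refine ⟨fun h hh => ?_, fun y hy hyo hyA => ?_⟩
  · obtain ⟨x, hx, hxh⟩ := lift (f ⟨h, hh⟩) (by rw [Subgroup.normalizer_eq_top]; exact Subgroup.mem_top _)
    obtain ⟨a, ha, e⟩ := (hT2 _).1 hxh
    have h1 : f ((⟨a, K.A_le_Cp ha⟩ : ↥C)⁻¹ * (x * (⟨h, hh⟩ : ↥C)⁻¹)) = 1 := by
      rw [map_mul, map_inv, e, map_mul, map_inv, inv_mul_cancel]
    obtain ⟨ζ, hζ, e', he', heq⟩ := hker _ h1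
    have heq' : a⁻¹ * ((x : H) * h⁻¹) = ζ * e' := heq
    have hl : a * (ζ * e') ∈ K.A ⊔ K.Ep :=
      Subgroup.mul_mem _ (Subgroup.mem_sup_left ha) (Subgroup.mul_mem _ (Subgroup.mem_sup_left (K.ZA_facts hζ).1)
        (Subgroup.mem_sup_right he'))
    refine ⟨(a * (ζ * e'))⁻¹, x, Subgroup.inv_mem _ hl, x.2, hx, ?_⟩
    rw [← heq']
    group
  · have h1 : f ⟨y, hy⟩ = 1 := by
      have hcT : f ⟨y, hy⟩ ∈ Subgroup.centralizer ((T2 : Subgroup X) : Set X) := by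
        rw [Subgroup.mem_centralizer_iff]
        intro w hw
        obtain ⟨a, ha, rfl⟩ := (hT2 w).1 hw
        rw [← map_mul, ← map_mul]
        exact congrArg f (Subtype.ext (mul_inv_eq_iff_eq_mul.1 (hyA a ha)).symm)
      have hburn : Subgroup.normalizer ((T2 : Subgroup X) : Set X) = ⊤ := Subgroup.normalizer_eq_top _
      let Cc := Subgroup.centralizer ((T2 : Subgroup X) : Set X)
      haveI : Cc.Normal := Subgroup.normal_centralizer
      obtain ⟨PC, hPC⟩ := ((Fusion.sylIn_top T2).mono (T2 : Subgroup X).le_centralizer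
        (le_top : Cc ≤ ⊤)).exists_sylow_subgroupOf
      have hb : Subgroup.normalizer ((PC : Subgroup ↥Cc) : Set ↥Cc) ≤
          Subgroup.centralizer ((PC : Subgroup ↥Cc) : Set ↥Cc) := by
        intro v _
        rw [Subgroup.mem_centralizer_iff]
        intro w hw
        rw [hPC] at hw
        exact Subtype.ext (Subgroup.mem_centralizer_iff.1 v.2 w hw)
      let T := MonoidHom.transferSylow PC hb
      have hbot : T.ker = ⊥ := by
        rw [eq_bot_iff, ← Char.oddCore_normal_eq_bot hO Cc]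
        exact Fusion.le_pPrimeCore
          ((Nat.Prime.coprime_iff_not_dvd Nat.prime_two).2 (MonoidHom.not_dvd_card_ker_transferSylow PC hb)).symm
      have htop : (PC : Subgroup ↥Cc) = ⊤ := by
        have := MonoidHom.ker_transferSylow_isComplement' PC hb
        change Subgroup.IsComplement' T.ker _ at this
        rwa [hbot, Subgroup.isComplement'_bot_left] at this
      have hmem : (⟨_, hcT⟩ : ↥Cc) ∈ (PC : Subgroup ↥Cc) := htop ▸ Subgroup.mem_top _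
      rw [hPC] at hmem
      obtain ⟨k, hk⟩ := IsPGroup.iff_orderOf.1 T2.2 ⟨_, hmem⟩
      rw [← Subgroup.orderOf_coe] at hk
      change orderOf (f ⟨y, hy⟩) = 2 ^ k at hk
      have hdvd : orderOf (f ⟨y, hy⟩) ∣ orderOf y := by
        rw [← Subgroup.orderOf_mk (H := C) y hy]
        exact orderOf_map_dvd f _
      rw [← orderOf_eq_one_iff, hk]
      rcases k with _ | k
      · rfl
      · exact absurd (hyo.of_dvd_nat (hk ▸ hdvd)) (by rw [pow_succ, Nat.not_odd_iff_even]; exact even_two.mul_left _)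
    obtain ⟨ζ, hζ, e, he, heq⟩ := hker _ h1
    change y = ζ * e at heq
    have hc : Commute ζ e := (mul_inv_eq_iff_eq_mul.1 (fix_ZA K hz (Ep_le K hz he) hζ)).symm
    obtain ⟨j, hj⟩ := hyo
    have hy1 : y ^ (2 * j + 1) = 1 := hj ▸ pow_orderOf_eq_one y
    rw [heq, hc.mul_pow, pow_succ ζ, pow_mul, _root_.sq, (K.ZA_facts hζ).2.2.1, one_pow, one_mul] at hy1
    have hζE : ζ ∈ K.Ep := by
      rw [eq_inv_of_mul_eq_one_left hy1]
      exact K.Ep.inv_mem (K.Ep.pow_mem he _)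
    rw [heq]
    exact K.Ep.mul_mem hζE he

end Ctx

end Cfsg.Agent.Lie.JankoSylow
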