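import Cfsg.Agent.Lib.Fusion.Product.Main
import Cfsg.Agent.Lib.Fusion.SolvableBalance
import Cfsg.Agent.Lib.Fusion.Involutions
import Cfsg.Agent.Lib.Lie.JankoSylow.Parabolic
import Cfsg.Agent.Lib.SSF.Main
import Cfsg.Agent.S1279

/-!
A strongly closed elementary abelian 2-subgroup with solvable involution centralisers and two classes of
involutions in it is normal when the odd core is trivial.
-/

set_option autoImplicit false
set_option linter.style.haveILetI false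
set_option linter.unusedSectionVars false

namespace Cfsg.Agent.Lie.JankoSylow

open Cfsg.Agent.Fusion (SylIn)

universe u

variable {R : Type u} [Group R] [Finite R]

/-- closed in every 2-subgroup containing it -/
def Closed (A : Subgroup R) : Prop :=
  ∀ T : Subgroup R, IsPGroup 2 T → A ≤ T → ∀ a ∈ A, ∀ g : R, g * a * g⁻¹ ∈ T → g * a * g⁻¹ ∈ A

theorem closed_of_strongly {A : Subgroup R} {S : Sylow 2 R} (h : Cfsg.IsStronglyClosed A (S : Subgroup R)) :
    Closed A := by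
  haveI : Fact (Nat.Prime 2) := ⟨Nat.prime_two⟩
  intro T hT hAT a ha g hg
  obtain ⟨x, -, hx⟩ := (Fusion.sylIn_top S).conj_le hT le_top
  have hxA : Fusion.cj A x = A := Fusion.cj_eq_of_cj_le (by
    rintro _ ⟨b, hb, rfl⟩
    exact h.2 b hb x (hx ⟨b, hAT hb, rfl⟩))
  have h1 : x * g * a * (x * g)⁻¹ ∈ A := h.2 a ha (x * g) (by
    rw [show x * g * a * (x * g)⁻¹ = x * (g * a * g⁻¹) * x⁻¹ by group]
    exact hx ⟨_, hg, rfl⟩)
  rw [← hxA] at h1
  obtain ⟨b, hb, e⟩ := h1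
  change x * b * x⁻¹ = x * g * a * (x * g)⁻¹ at e
  rwa [show g * a * g⁻¹ = b from mul_left_cancel (a := x) (mul_right_cancel (b := x⁻¹)
    (by rw [e]; group))]

theorem Closed.strongly {A : Subgroup R} (h : Closed A) {S : Sylow 2 R} (hA : A ≤ (S : Subgroup R)) :
    Cfsg.IsStronglyClosed A (S : Subgroup R) :=
  ⟨hA, fun a ha g hg => h _ S.2 hA a ha g hg⟩

/-- an element of order two in a subgroup of involutions -/
theorem two_of_sq {A : Subgroup R} (hA : ∀ a ∈ A, a * a = 1) : IsPGroup 2 A :=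
  fun a => ⟨1, Subtype.ext (by rw [pow_one]; exact (pow_two (a : R)).trans (hA a a.2))⟩

theorem closed_solvable {A : Subgroup R} (hsol : Group.IsSolvable R) (hO : Cfsg.oddCore R = ⊥)
    (hA : ∀ a ∈ A, a * a = 1) (hcl : Closed A) : A.Normal := by
  haveI : Fact (Nat.Prime 2) := ⟨Nat.prime_two⟩
  set O2 := Cfsg.pCore 2 R with hO2
  haveI hn2 : O2.Normal := Solv.pCore_normal 2
  have hp2 : IsPGroup 2 O2 := Solv.pCore_isPGroup 2
  have hT : IsPGroup 2 ↥(A ⊔ O2) := (two_of_sq hA).to_sup_of_normal_right hp2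
  set D := A ⊓ O2
  haveI hD : D.Normal := ⟨fun d hd g =>
    ⟨hcl _ hT le_sup_left d hd.1 g (Subgroup.mem_sup_right (hn2.conj_mem d hd.2 g)), hn2.conj_mem d hd.2 g⟩⟩
  have hcomm : ∀ a ∈ A, ∀ b ∈ A, a * b = b * a := fun a ha b hb => by
    have h1 := hA _ (A.mul_mem ha hb)
    have h2 := inv_eq_of_mul_eq_one_right h1
    rw [mul_inv_rev, inv_eq_of_mul_eq_one_right (hA a ha), inv_eq_of_mul_eq_one_right (hA b hb)] at h2
    exact h2.symm
  let W : Subgroup R :=
    { carrier := {x | (∀ d ∈ D, x * d * x⁻¹ = d) ∧ ∀ o ∈ O2, o⁻¹ * (x * o * x⁻¹) ∈ D}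
      one_mem' := ⟨fun d _ => by group, fun o _ => by simp⟩
      mul_mem' := by
        rintro x y ⟨hx1, hx2⟩ ⟨hy1, hy2⟩
        refine ⟨fun d hd => ?_, fun o ho => ?_⟩
        · rw [show x * y * d * (x * y)⁻¹ = x * (y * d * y⁻¹) * x⁻¹ by group, hy1 d hd, hx1 d hd]
        · have h1 := hy2 o ho
          rw [show o⁻¹ * (x * y * o * (x * y)⁻¹) = o⁻¹ * (x * o * x⁻¹) * (x * (o⁻¹ * (y * o * y⁻¹)) * x⁻¹) by
            group, hx1 _ h1]
          exact D.mul_mem (hx2 o ho) h1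
      inv_mem' := by
        rintro x ⟨hx1, hx2⟩
        refine ⟨fun d hd => ?_, fun o ho => ?_⟩
        · conv_lhs => rw [← hx1 d hd]
          group
        · have h1 := hx2 o ho
          have h2 : x⁻¹ * (o⁻¹ * (x * o * x⁻¹)) * x = o⁻¹ * (x * o * x⁻¹) := by
            conv_lhs => rw [← hx1 _ h1]
            group
          have h3 := hD.conj_mem _ (D.inv_mem h1) x⁻¹
          have h4 : o * x⁻¹ * o⁻¹ * x ∈ D := by
            have := hD.conj_mem _ h1 (o * x⁻¹)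
            convert this using 1
            group
          have h5 := hD.conj_mem _ (D.inv_mem h4) o⁻¹
          convert h5 using 1
          group }
  haveI hW : W.Normal := ⟨fun x hx g => by
    obtain ⟨hx1, hx2⟩ := hx
    refine ⟨fun d hd => ?_, fun o ho => ?_⟩
    · have h1 := hx1 _ (hD.conj_mem d hd g⁻¹)
      rw [show g * x * g⁻¹ * d * (g * x * g⁻¹)⁻¹ = g * (x * (g⁻¹ * d * g⁻¹⁻¹) * x⁻¹) * g⁻¹ by group, h1]
      group
    · have h1 := hD.conj_mem _ (hx2 _ (hn2.conj_mem o ho g⁻¹)) g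
      convert h1 using 1
      group⟩
  have hAW : A ≤ W := fun a ha => ⟨fun d hd => by rw [hcomm a ha d hd.1, mul_inv_cancel_right], fun o ho => by
    refine ⟨?_, O2.mul_mem (O2.inv_mem ho) (hn2.conj_mem o ho a)⟩
    have h0 : o⁻¹ * a * o⁻¹⁻¹ ∈ A ⊔ O2 := Subgroup.mul_mem _ (Subgroup.mul_mem _
      (Subgroup.mem_sup_right (O2.inv_mem ho)) (Subgroup.mem_sup_left ha))
      (Subgroup.mem_sup_right (O2.inv_mem (O2.inv_mem ho)))
    rw [show o⁻¹ * (a * o * a⁻¹) = o⁻¹ * a * o⁻¹⁻¹ * a⁻¹ by group]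
    exact A.mul_mem (hcl _ hT le_sup_left a ha o⁻¹ h0) (A.inv_mem ha)⟩
  have hW2 : IsPGroup 2 W := by
    intro x
    obtain ⟨y, d, hxy, hy, hd, hym, hdm⟩ := exists_parts (x : R)
    have hdW : d ∈ W := Subgroup.zpowers_le.2 x.2 hdm
    have hd2 : d ∈ O2 := by
      refine Fusion.centralizer_pCore_le_of_solvable hsol hO (Subgroup.mem_centralizer_iff.2 fun o ho => ?_)
      have h1 := hdW.2 o ho
      have h2 := odd_fix (x := o) hd (hdW.1 _ h1) (hA _ h1.1) (by group)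
      rw [inv_mul_eq_one] at h2
      exact (mul_inv_eq_iff_eq_mul.1 h2.symm).symm
    have hd1 : d = 1 := by
      obtain ⟨k, hk⟩ := IsPGroup.iff_orderOf.1 hp2 ⟨d, hd2⟩
      rw [Subgroup.orderOf_mk] at hk
      rw [← orderOf_eq_one_iff, hk]
      rcases k with _ | k
      · rfl
      · exact absurd (hk ▸ hd) (by rw [pow_succ, Nat.not_odd_iff_even]; exact even_two.mul_left _)
    rw [hd1, mul_one] at hxy
    obtain ⟨k, hk⟩ := hy ⟨y, Subgroup.mem_zpowers y⟩
    refine ⟨k, Subtype.ext ?_⟩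
    have := congrArg Subtype.val hk
    simpa [hxy] using this
  have hAO : A ≤ O2 := hAW.trans (Solv.normal_le_pCore hW2)
  have hAD : A = D := (inf_eq_left.2 hAO).symm
  exact hAD ▸ hD

/-- images of closed subgroups are closed -/
theorem Closed.map {A : Subgroup R} (h : Closed A) (hA : IsPGroup 2 A) (M : Subgroup R) [M.Normal] :
    Closed (A.map (QuotientGroup.mk' M)) := by
  haveI : Fact (Nat.Prime 2) := ⟨Nat.prime_two⟩
  obtain ⟨S, hS⟩ := hA.exists_le_sylow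
  exact closed_of_strongly (StrongProd.sc_map (h.strongly hS) M)

theorem Closed.comap {A : Subgroup R} (h : Closed A) (X : Subgroup R) (hA : A ≤ X) :
    Closed (A.subgroupOf X) := by
  intro T hT hAT a ha g hg
  exact h (T.map X.subtype) (hT.map _) (fun b hb => ⟨⟨b, hA hb⟩, hAT hb, rfl⟩) a ha g ⟨_, hg, rfl⟩

theorem core_conj_cent (a x : R) {o : R} (ho : o ∈ Cfsg.centralizerPPrimeCore 2 a) :
    x * o * x⁻¹ ∈ Cfsg.centralizerPPrimeCore 2 (x * a * x⁻¹) := by
  haveI : (Cfsg.oddCore ↥(Subgroup.centralizer ({a} : Set R))).Normal := StrongProd.oddCore_normal _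
  set C := Subgroup.centralizer ({a} : Set R)
  set C' := Subgroup.centralizer ({x * a * x⁻¹} : Set R)
  have hf : ∀ c : ↥C, x * (c : R) * x⁻¹ ∈ C' := fun c => Subgroup.mem_centralizer_singleton_iff.2
    ((Commute.conj_iff x).2 (Subgroup.mem_centralizer_singleton_iff.1 c.2))
  let f : ↥C →* ↥C' := ((MulAut.conj x).toMonoidHom.comp C.subtype).codRestrict C' hf
  have hsurj : Function.Surjective f := fun c' => by
    have h1 : x⁻¹ * (c' : R) * x ∈ C := by
      refine Subgroup.mem_centralizer_singleton_iff.2 ?_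
      have := (Commute.conj_iff x⁻¹).2 (Subgroup.mem_centralizer_singleton_iff.1 c'.2 :
        Commute (c' : R) (x * a * x⁻¹))
      simpa [mul_assoc] using this.eq
    exact ⟨⟨_, h1⟩, Subtype.ext (show x * (x⁻¹ * (c' : R) * x) * x⁻¹ = c' by group)⟩
  obtain ⟨o, ho, rfl⟩ := ho
  refine ⟨f o, ?_, rfl⟩
  haveI := ((inferInstance : (Cfsg.oddCore ↥C).Normal)).map f hsurj
  exact Fusion.le_pPrimeCore ((Fusion.card_pPrimeCore_coprime 2 ↥C).coprime_dvd_left
    (Subgroup.card_map_dvd _ f)) ⟨o, ho, rfl⟩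

/-- the centraliser of an element of a closed abelian subgroup is the product of its odd core and a normaliser -/
theorem cent_split {A : Subgroup R} (hA : ∀ a ∈ A, a * a = 1) (hcl : Closed A) {a : R} (ha : a ∈ A)
    (hsol : Group.IsSolvable ↥(Subgroup.centralizer ({a} : Set R))) {c : R}
    (hc : c ∈ Subgroup.centralizer ({a} : Set R)) :
    ∃ k ∈ Cfsg.centralizerPPrimeCore 2 a, ∃ n ∈ Subgroup.normalizer (A : Set R), c = k * n := by
  classical
  haveI : Fact (Nat.Prime 2) := ⟨Nat.prime_two⟩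
  set C := Subgroup.centralizer ({a} : Set R) with hC
  have hAC : A ≤ C := fun b hb => Subgroup.mem_centralizer_singleton_iff.2 (by
    have h1 := hA _ (A.mul_mem ha hb)
    have h2 := inv_eq_of_mul_eq_one_right h1
    rw [mul_inv_rev, inv_eq_of_mul_eq_one_right (hA a ha), inv_eq_of_mul_eq_one_right (hA b hb)] at h2
    exact h2)
  haveI : (Cfsg.oddCore ↥C).Normal := StrongProd.oddCore_normal _
  let A' := A.subgroupOf C
  let π := QuotientGroup.mk' (Cfsg.oddCore ↥C)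
  haveI := hsol
  have hA'2 : IsPGroup 2 A' := two_of_sq fun b hb => Subtype.ext (hA b hb)
  haveI hn : (A'.map π).Normal := closed_solvable
    (Group.isSolvable_of_surjective (QuotientGroup.mk'_surjective _)) Fusion.pPrimeCore_quotient_eq_bot
    (by
      rintro _ ⟨b, hb, rfl⟩
      rw [← map_mul, show b * b = 1 from Subtype.ext (hA b hb), map_one])
    ((hcl.comap C hAC).map hA'2 _)
  let M := A' ⊔ Cfsg.oddCore ↥C
  let c' : ↥C := ⟨c, hc⟩
  have hcM : Fusion.cj A' c' ≤ M := by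
    rintro _ ⟨b, hb, rfl⟩
    show c' * b * c'⁻¹ ∈ M
    have h1 := hn.conj_mem _ (Subgroup.mem_map_of_mem π hb) (π c')
    rw [← map_inv, ← map_mul, ← map_mul, ← Subgroup.mem_comap, Subgroup.comap_map_eq,
      QuotientGroup.ker_mk'] at h1
    exact h1
  have hdec : ∀ v ∈ M, ∃ b ∈ A', ∃ o ∈ Cfsg.oddCore ↥C, v = b * o := fun v hv => by
    obtain ⟨b, hb, o, ho, e⟩ := Subgroup.mem_sup_of_normal_right.1 hv
    exact ⟨b, hb, o, ho, e.symm⟩
  have hsyl : SylIn 2 A' M := by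
    obtain ⟨T, hT, hAT⟩ := Fusion.exists_sylIn_ge hA'2 (le_sup_left : A' ≤ M)
    suffices h : T = A' from h ▸ hT
    refine le_antisymm (fun t ht => ?_) hAT
    obtain ⟨b, hb, o, ho, rfl⟩ := hdec t (hT.le ht)
    have hoT : o ∈ T := by simpa using T.mul_mem (T.inv_mem (hAT hb)) ht
    obtain ⟨k, hk⟩ := IsPGroup.iff_orderOf.1 hT.isPGroup ⟨o, hoT⟩
    rw [Subgroup.orderOf_mk] at hk
    have ho1 : o = 1 := by
      rw [← orderOf_eq_one_iff, hk]
      rcases k with _ | k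
      · rfl
      · have h2 := Fusion.mem_pPrimeCore_orderOf ho
        rw [hk] at h2
        exact absurd (Nat.coprime_two_right.1 h2) (by rw [pow_succ, Nat.not_odd_iff_even]; exact even_two.mul_left _)
    rw [ho1, mul_one]
    exact hb
  obtain ⟨v, hv, hvA⟩ := hsyl.conj_le (Fusion.isPGroup_cj hA'2 c') hcM
  obtain ⟨b, hb, o, ho, rfl⟩ := hdec v hv
  rw [← Fusion.cj_cj] at hvA
  have hb1 : Fusion.cj A' (o * c') ≤ A' := by
    have h3 := Fusion.cj_mono hvA b⁻¹
    rw [Fusion.cj_cj, Fusion.cj_cj, Fusion.cj_eq_self_of_mem (A'.inv_mem hb)] at h3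
    simpa [mul_assoc, Fusion.cj_cj] using h3
  refine ⟨((o⁻¹ : ↥C) : R), ⟨_, (Cfsg.oddCore ↥C).inv_mem ho, rfl⟩, ((o * c' : ↥C) : R), ?_, ?_⟩
  · refine Fusion.mem_normalizer_of_cj_le ?_
    rintro _ ⟨b', hb', rfl⟩
    exact hb1 ⟨⟨b', hAC hb'⟩, hb', rfl⟩
  · show c = (o : R)⁻¹ * ((o : R) * c)
    group

/-- the dihedral step -/
theorem eq_top_of_two_classes {A M : Subgroup R} (hA : ∀ a ∈ A, a * a = 1) (hcl : Closed A)
    (hC : ∀ a ∈ A, a ≠ 1 → Subgroup.centralizer ({a} : Set R) ≤ M)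
    (hN : Subgroup.normalizer (A : Set R) ≤ M) {u v : R} (hu : u ∈ A) (hv : v ∈ A) (hu1 : u ≠ 1) (hv1 : v ≠ 1)
    (hne : ¬ IsConj u v) : M = ⊤ := by
  haveI : Fact (Nat.Prime 2) := ⟨Nat.prime_two⟩
  refine eq_top_iff.2 fun g _ => ?_
  have hAC : ∀ {a}, a ∈ A → A ≤ Subgroup.centralizer ({a} : Set R) := fun {a} ha b hb =>
    Subgroup.mem_centralizer_singleton_iff.2 (by
      have h1 := hA _ (A.mul_mem ha hb)
      have h2 := inv_eq_of_mul_eq_one_right h1
      rw [mul_inv_rev, inv_eq_of_mul_eq_one_right (hA a ha), inv_eq_of_mul_eq_one_right (hA b hb)] at h2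
      exact h2)
  set v' := g * v * g⁻¹ with hv'
  have hv'2 : v' * v' = 1 := by rw [hv', conj_mul, hA v hv]; group
  have huu := hA u hu
  set d := u * v' with hd
  have hud : ∀ j : ℕ, u * d ^ j = (d ^ j)⁻¹ * u := fun j => by
    induction j with
    | zero => simp
    | succ j ih =>
      have e : u * d = d⁻¹ * u := by
        rw [hd, mul_inv_rev, inv_eq_of_mul_eq_one_right huu, inv_eq_of_mul_eq_one_right hv'2, mul_assoc v' u u,
          huu, mul_one, ← mul_assoc, huu, one_mul]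
      rw [pow_succ, ← mul_assoc, ih, mul_assoc, e, ← mul_assoc, ← mul_inv_rev, ← pow_succ', ← pow_succ]
  -- conjugates inside the dihedral group
  have hvd : g * v * g⁻¹ = u * d := by rw [hd, ← mul_assoc, huu, one_mul]
  have hparo : ∀ j : ℕ, IsConj v (u * d ^ (2 * j + 1)) := fun j => by
    refine (isConj_iff.2 ⟨g, rfl⟩).trans (isConj_iff.2 ⟨(d ^ j)⁻¹, ?_⟩)
    rw [inv_inv, hvd, ← mul_assoc ((d ^ j)⁻¹) u d, ← hud, mul_assoc u, mul_assoc u, ← pow_succ, ← pow_add,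
      show j + 1 + j = 2 * j + 1 by ring]
  have hpar : ∀ m : ℕ, IsConj u (u * d ^ m) ∨ IsConj v (u * d ^ m) := by
    intro m
    rcases Nat.even_or_odd m with ⟨j, rfl⟩ | ⟨j, rfl⟩
    · refine Or.inl (isConj_iff.2 ⟨(d ^ j)⁻¹, ?_⟩)
      rw [inv_inv, pow_add, ← mul_assoc, hud]
    · exact Or.inr (hparo j)
  have hodd : ¬ Odd (orderOf d) := by
    rintro ⟨j, hj⟩
    -- `u = u d^(2j+1)` is conjugate to `v`
    have h2 := hparo j
    rw [← hj, pow_orderOf_eq_one, mul_one] at h2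
    exact hne h2.symm
  obtain ⟨m, hm⟩ := Nat.not_odd_iff_even.1 hodd
  set c := d ^ m with hc
  have hcc : c * c = 1 := by rw [hc, ← pow_add, ← hm, pow_orderOf_eq_one]
  have hc1 : c ≠ 1 := by
    intro e
    have h1 := orderOf_dvd_of_pow_eq_one e
    have h2 := orderOf_pos d
    have := Nat.le_of_dvd (by omega) h1
    omega
  have hcu : Commute u c := by
    show u * c = c * u
    rw [hc, hud, ← hc, inv_eq_of_mul_eq_one_right hcc]
  have hcd : Commute c d := (Commute.refl d).pow_left m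
  have hcv : Commute c v' := by
    have h1 : v' = u * d := by rw [hd, ← mul_assoc, huu, one_mul]
    rw [h1]
    exact hcu.symm.mul_right hcd
  -- move `c` into `A` under the centraliser of `u`
  obtain ⟨T, hT, hAT⟩ := Fusion.exists_sylIn_ge (two_of_sq hA) (hAC hu)
  have hz2 : IsPGroup 2 (Subgroup.zpowers c) := by
    refine two_of_sq fun y hy => ?_
    obtain ⟨i, rfl⟩ := Subgroup.mem_zpowers_iff.1 hy
    rw [← zpow_add, ← two_mul, zpow_mul, show c ^ (2 : ℤ) = 1 by rw [zpow_two, hcc], one_zpow]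
  obtain ⟨k, hk, hkT⟩ := hT.conj_le hz2
    (Subgroup.zpowers_le.2 (Subgroup.mem_centralizer_singleton_iff.2 hcu.symm.eq))
  have hku : k * u * k⁻¹ = u := mul_inv_eq_iff_eq_mul.2 (Subgroup.mem_centralizer_singleton_iff.1 hk)
  have hkc : k * c * k⁻¹ ∈ T := hkT ⟨c, Subgroup.mem_zpowers c, rfl⟩
  have hc'A : k * c * k⁻¹ ∈ A := by
    have hmem : u * (k * c * k⁻¹) ∈ A := by
      have h1 : u * (k * c * k⁻¹) ∈ T := T.mul_mem (hAT hu) hkc
      have h2 : u * (k * c * k⁻¹) = k * (u * c) * k⁻¹ := by rw [← conj_mul, hku]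
      rcases hpar m with e | e
      · obtain ⟨y, hy⟩ := isConj_iff.1 e
        rw [← hc] at hy
        rw [h2, ← hy, show k * (y * u * y⁻¹) * k⁻¹ = k * y * u * (k * y)⁻¹ by group] at h1 ⊢
        exact hcl T hT.isPGroup hAT u hu _ h1
      · obtain ⟨y, hy⟩ := isConj_iff.1 e
        rw [← hc] at hy
        rw [h2, ← hy, show k * (y * v * y⁻¹) * k⁻¹ = k * y * v * (k * y)⁻¹ by group] at h1 ⊢
        exact hcl T hT.isPGroup hAT v hv _ h1
    have := A.mul_mem (A.inv_mem hu) hmem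
    rwa [inv_mul_cancel_left] at this
  have hc'1 : k * c * k⁻¹ ≠ 1 := fun e => hc1 (conj_eq_one_iff.1 e)
  have hkM : k ∈ M := hC u hu hu1 hk
  -- move `v'` into `A` under the centraliser of `k c k⁻¹`
  obtain ⟨T2, hT2, hAT2⟩ := Fusion.exists_sylIn_ge (two_of_sq hA) (hAC hc'A)
  have hw : Commute (k * v' * k⁻¹) (k * c * k⁻¹) := (Commute.conj_iff k).2 hcv.symm
  have hz3 : IsPGroup 2 (Subgroup.zpowers (k * v' * k⁻¹)) := by
    refine two_of_sq fun y hy => ?_
    obtain ⟨i, rfl⟩ := Subgroup.mem_zpowers_iff.1 hy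
    rw [← zpow_add, ← two_mul, zpow_mul, show (k * v' * k⁻¹) ^ (2 : ℤ) = 1 by
      rw [zpow_two, conj_mul, hv'2]; group, one_zpow]
  obtain ⟨l, hl, hlT⟩ := hT2.conj_le hz3 (Subgroup.zpowers_le.2 (Subgroup.mem_centralizer_singleton_iff.2 hw.eq))
  have hlM : l ∈ M := hC _ hc'A hc'1 hl
  set x := l * k * g with hx
  have hxv : x * v * x⁻¹ ∈ A := by
    refine hcl T2 hT2.isPGroup hAT2 v hv x ?_
    have := hlT ⟨_, Subgroup.mem_zpowers (k * v' * k⁻¹), rfl⟩
    change l * (k * v' * k⁻¹) * l⁻¹ ∈ T2 at this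
    convert this using 1
    rw [hx, hv']
    group
  have hxv1 : x * v * x⁻¹ ≠ 1 := fun e => hv1 (conj_eq_one_iff.1 e)
  -- two abelian closed subgroups in one centraliser
  obtain ⟨T3, hT3, hAT3⟩ := Fusion.exists_sylIn_ge (two_of_sq hA) (hAC hxv)
  have hxA : Fusion.cj A x ≤ Subgroup.centralizer ({x * v * x⁻¹} : Set R) := by
    rintro _ ⟨b, hb, rfl⟩
    exact Subgroup.mem_centralizer_singleton_iff.2
      ((Commute.conj_iff x).2 (Subgroup.mem_centralizer_singleton_iff.1 (hAC hv hb)))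
  obtain ⟨r, hr, hrT⟩ := hT3.conj_le (Fusion.isPGroup_cj (two_of_sq hA) x) hxA
  rw [Fusion.cj_cj] at hrT
  have hrx : r * x ∈ M := hN (Fusion.mem_normalizer_of_cj_le (by
    rintro _ ⟨b, hb, rfl⟩
    exact hcl T3 hT3.isPGroup hAT3 b hb _ (hrT ⟨b, hb, rfl⟩)))
  have hrM : r ∈ M := hC _ hxv hxv1 hr
  have hxM : x ∈ M := by simpa using M.mul_mem (M.inv_mem hrM) hrx
  have := M.mul_mem (M.inv_mem (M.mul_mem hlM hkM)) hxM
  rwa [hx, inv_mul_cancel_left] at this

/-- the special case of Goldschmidt's theorem -/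
theorem closed_normal {A : Subgroup R} (hO : Cfsg.oddCore R = ⊥) (hA : Cfsg.IsElementaryAbelian 2 A)
    (h3 : 2 ^ 3 ≤ Nat.card A) (hcl : Closed A)
    (hsol : ∀ a ∈ A, a ≠ 1 → Group.IsSolvable ↥(Subgroup.centralizer ({a} : Set R)))
    (htwo : ∃ u ∈ A, ∃ v ∈ A, u ≠ 1 ∧ v ≠ 1 ∧ ¬ IsConj u v) : A.Normal := by
  haveI : Fact (Nat.Prime 2) := ⟨Nat.prime_two⟩
  obtain ⟨u, hu, v, hv, hu1, hv1, hne⟩ := htwo
  have hsq : ∀ a ∈ A, a * a = 1 := fun a ha => (pow_two a).symm.trans (hA.2 a ha)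
  set θ := fun a : R => Cfsg.centralizerPPrimeCore 2 a
  have hθ : Cfsg.IsSolvableSignalizerFunctor 2 A θ :=
    Cfsg.Agent.S1279.result 2 A hA ((Nat.pow_le_pow_right two_pos (by norm_num)).trans h3) hsol
  obtain ⟨⟨-, hodd, -, -⟩, -⟩ := SSF.complete hA h3 hθ
  set Θ := ⨆ a : {a : R // a ∈ A ∧ a ≠ 1}, θ a with hΘ
  have hle : ∀ a ∈ A, a ≠ 1 → θ a ≤ Θ := fun a ha ha1 =>
    le_iSup (fun b : {a : R // a ∈ A ∧ a ≠ 1} => θ b) ⟨a, ha, ha1⟩
  set M := Subgroup.normalizer (Θ : Set R)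
  have hNM : Subgroup.normalizer (A : Set R) ≤ M := by
    intro x hx
    refine Fusion.mem_normalizer_of_cj_le ?_
    rw [Fusion.cj, hΘ, Subgroup.map_iSup]
    refine iSup_le fun a => ?_
    rintro _ ⟨o, ho, rfl⟩
    exact hle (x * a * x⁻¹) ((Subgroup.mem_normalizer_iff.1 hx a).1 a.2.1)
      (fun e => a.2.2 (conj_eq_one_iff.1 e)) (core_conj_cent _ x ho)
  have hcent : ∀ a ∈ A, a ≠ 1 → Subgroup.centralizer ({a} : Set R) ≤ M := by
    intro a ha ha1 c hc
    obtain ⟨k, hk, n, hn, rfl⟩ := cent_split hsq hcl ha (hsol a ha ha1) hc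
    exact M.mul_mem (Subgroup.le_normalizer (hle a ha ha1 hk)) (hNM hn)
  have hM := eq_top_of_two_classes hsq hcl hcent hNM hu hv hu1 hv1 hne
  haveI : Θ.Normal := Subgroup.normalizer_eq_top_iff.1 hM
  have hbot : Θ = ⊥ := by
    rw [eq_bot_iff, ← hO]
    exact Fusion.le_pPrimeCore ((Nat.Prime.coprime_iff_not_dvd Nat.prime_two).2 hodd).symm
  refine Subgroup.normalizer_eq_top_iff.1 (eq_top_of_two_classes hsq hcl ?_ le_rfl hu hv hu1 hv1 hne)
  intro a ha ha1 c hc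
  obtain ⟨k, hk, n, hn, rfl⟩ := cent_split hsq hcl ha (hsol a ha ha1) hc
  have hk1 : k = 1 := Subgroup.mem_bot.1 (hbot ▸ hle a ha ha1 hk)
  rw [hk1, one_mul]
  exact hn

end Cfsg.Agent.Lie.JankoSylow
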