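import Cfsg.Agent.Lib.Lie.JankoSylow.Closed
import Cfsg.Agent.Lib.Lie.JankoSylow.ClosedAbelian
import Cfsg.Agent.Lib.Fusion.Product.Functor
import Cfsg.Agent.Lib.Char.ZStar
import Cfsg.Agent.Lib.Lie.CoreFunctor

/-!
Solvability of the stabiliser of `{p, p z}`, and of centralisers with an isolated involution over them.
-/

set_option autoImplicit false
set_option linter.style.haveILetI false
set_option linter.unusedSectionVars false

namespace Cfsg.Agent.Lie.JankoSylow

open Cfsg.Agent.Fusion (SylIn)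

universe u

variable {R : Type u} [Group R] [Finite R]

theorem solvable_ext (N : Subgroup R) [N.Normal] (hN : Group.IsSolvable N) (hq : Group.IsSolvable (R ⧸ N)) :
    Group.IsSolvable R := by
  haveI := hN; haveI := hq
  exact Group.isSolvable_of_ker_le_range N.subtype (QuotientGroup.mk' N) (by simp)

theorem solvable_of_sq (N : Subgroup R) [N.Normal] (hN : Group.IsSolvable N) (hsq : ∀ x : R, x * x ∈ N) :
    Group.IsSolvable R := by
  refine solvable_ext N hN (Group.isSolvable_of_comm fun a b => ?_)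
  obtain ⟨a, rfl⟩ := QuotientGroup.mk'_surjective N a
  obtain ⟨b, rfl⟩ := QuotientGroup.mk'_surjective N b
  have h : ∀ x : R, (QuotientGroup.mk' N x)⁻¹ = QuotientGroup.mk' N x := fun x =>
    inv_eq_of_mul_eq_one_right (by rw [← map_mul]; exact (QuotientGroup.eq_one_iff _).2 (hsq x))
  calc QuotientGroup.mk' N a * QuotientGroup.mk' N b = (QuotientGroup.mk' N (a * b))⁻¹ := by rw [h, map_mul]
    _ = _ := by rw [map_mul, mul_inv_rev, h, h]

/-- stabilisers of a pair over a solvable stabiliser of both its members -/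
theorem solvable_pair {P : Subgroup R} {e f : R} (hef : ∀ p ∈ P, (p * e * p⁻¹ = e ∧ p * f * p⁻¹ = f) ∨
    (p * e * p⁻¹ = f ∧ p * f * p⁻¹ = e)) (hsol : Group.IsSolvable ↥(Subgroup.centralizer ({e} : Set R))) :
    Group.IsSolvable P := by
  let N : Subgroup ↥P := (Subgroup.centralizer ({e} : Set R)).subgroupOf P
  have hmem : ∀ n : ↥P, n ∈ N ↔ (n : R) * e * (n : R)⁻¹ = e := fun n => by
    show (n : R) ∈ Subgroup.centralizer ({e} : Set R) ↔ _
    rw [Subgroup.mem_centralizer_singleton_iff, mul_inv_eq_iff_eq_mul]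
  haveI : N.Normal := ⟨fun n hn p => by
    rw [hmem] at hn ⊢
    have hfix : (n : R) * f * (n : R)⁻¹ = f := by
      rcases hef n n.2 with ⟨-, h⟩ | ⟨h1, h2⟩
      · exact h
      · rw [hn] at h1
        rw [← h1]
        exact hn
    show (p : R) * n * (p : R)⁻¹ * e * ((p : R) * n * (p : R)⁻¹)⁻¹ = e
    rw [show (p : R) * n * (p : R)⁻¹ * e * ((p : R) * n * (p : R)⁻¹)⁻¹ =
      (p : R) * ((n : R) * ((p : R)⁻¹ * e * (p : R)⁻¹⁻¹) * (n : R)⁻¹) * (p : R)⁻¹ by group]
    rcases hef _ (P.inv_mem p.2) with ⟨h, -⟩ | ⟨h, -⟩ <;> rw [h]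
    · rw [hn]
      conv_lhs => rw [← h]
      group
    · rw [hfix]
      conv_lhs => rw [← h]
      group⟩
  refine solvable_of_sq N ?_ fun p => ?_
  · haveI := hsol
    let φ : ↥N →* ↥(Subgroup.centralizer ({e} : Set R)) :=
      (P.subtype.comp N.subtype).codRestrict _ fun n => n.2
    exact Group.isSolvable_of_isSolvable_injective (f := φ) fun a b h =>
      Subtype.ext (Subtype.ext (congrArg Subtype.val h :))
  · rw [hmem]
    show (p : R) * p * e * ((p : R) * p)⁻¹ = e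
    rw [show (p : R) * p * e * ((p : R) * p)⁻¹ = (p : R) * ((p : R) * e * (p : R)⁻¹) * (p : R)⁻¹ by group]
    rcases hef p p.2 with ⟨h, -⟩ | ⟨h, h'⟩
    · rw [h, h]
    · rw [h, h']

theorem solvable_of_central_invol (hOs : Group.IsSolvable (Cfsg.oddCore R)) {t : R} (htt : t * t = 1)
    (ht : Char.OddInvol t) (hsol : Group.IsSolvable ↥(Subgroup.centralizer ({t} : Set R))) :
    Group.IsSolvable R := by
  set O := Cfsg.oddCore R with hO
  haveI : O.Normal := StrongProd.oddCore_normal _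
  have hodd := Char.card_oddCore_odd R
  refine solvable_ext O hOs ?_
  let f : ↥(Subgroup.centralizer ({t} : Set R)) →* R ⧸ O := (QuotientGroup.mk' O).comp (Subgroup.subtype _)
  haveI := hsol
  refine Group.isSolvable_of_surjective (f := f) fun y => ?_
  obtain ⟨x, rfl⟩ := QuotientGroup.mk'_surjective O y
  set t' := x * t * x⁻¹ with ht'
  set d := t * t' with hd
  have ht't' : t' * t' = 1 := by rw [ht', conj_mul, htt]; group
  have hdO : d ∈ O := by
    have h1 := Char.zStar ht x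
    rwa [inv_eq_of_mul_eq_one_right htt, show t * x * t * x⁻¹ = d by rw [hd, ht']; group] at h1
  obtain ⟨j, hj⟩ : Odd (orderOf d) := hodd.of_dvd_nat (Subgroup.orderOf_dvd_natCard _ hdO)
  have htd : ∀ k : ℕ, t * d ^ k = (d ^ k)⁻¹ * t := fun k => by
    induction k with
    | zero => simp
    | succ k ih =>
      have e : t * d = d⁻¹ * t := by
        rw [hd, mul_inv_rev, inv_eq_of_mul_eq_one_right htt, inv_eq_of_mul_eq_one_right ht't', mul_assoc t' t t,
          htt, mul_one, ← mul_assoc, htt, one_mul]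
      rw [pow_succ, ← mul_assoc, ih, mul_assoc, e, ← mul_assoc, ← mul_inv_rev, ← pow_succ', ← pow_succ]
  have hvd : x * t * x⁻¹ = t * d := by rw [hd, ← mul_assoc, htt, one_mul]
  have hk : (d ^ j)⁻¹ * x * t * ((d ^ j)⁻¹ * x)⁻¹ = t := by
    rw [show (d ^ j)⁻¹ * x * t * ((d ^ j)⁻¹ * x)⁻¹ = (d ^ j)⁻¹ * (x * t * x⁻¹) * d ^ j by group, hvd,
      ← mul_assoc ((d ^ j)⁻¹) t d, ← htd, mul_assoc t, mul_assoc t, ← pow_succ, ← pow_add,
      show j + 1 + j = 2 * j + 1 by ring, ← hj, pow_orderOf_eq_one, mul_one]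
  refine ⟨⟨(d ^ j)⁻¹ * x, Subgroup.mem_centralizer_singleton_iff.2 (mul_inv_eq_iff_eq_mul.1 hk)⟩, ?_⟩
  show QuotientGroup.mk' O ((d ^ j)⁻¹ * x) = QuotientGroup.mk' O x
  rw [map_mul, map_inv, show QuotientGroup.mk' O (d ^ j) = 1 from (QuotientGroup.eq_one_iff _).2 (O.pow_mem hdO j),
    inv_one, one_mul]

/-- centralisers inside which a pair from a closed subgroup is invariant -/
theorem solvable_cent_of_pair {A : Subgroup R} (hA : ∀ a ∈ A, a * a = 1) (hcl : Closed A) {w e : R}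
    (hw : w ∈ A) (he : e ∈ A) (he1 : e ≠ 1) (hew : e ≠ w)
    (hpres : ∀ g : R, g * w * g⁻¹ = w → g * e * g⁻¹ ∈ A → g * e * g⁻¹ = e ∨ g * e * g⁻¹ = e * w)
    (hsol : Group.IsSolvable ↥(Subgroup.centralizer ({e} : Set R))) :
    Group.IsSolvable ↥(Subgroup.centralizer ({w} : Set R)) := by
  classical
  haveI : Fact (Nat.Prime 2) := ⟨Nat.prime_two⟩
  set C := Subgroup.centralizer ({w} : Set R) with hC
  have hcomm : ∀ a ∈ A, ∀ b ∈ A, a * b = b * a := fun a ha b hb => StrongProd.commute_of_sq hA ha hb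
  have hAC : A ≤ C := fun a ha => Subgroup.mem_centralizer_singleton_iff.2 (hcomm a ha w hw)
  have hww := hA w hw
  let w' : ↥C := ⟨w, hAC hw⟩
  have hwc : ∀ c : ↥C, (c : R) * w * (c : R)⁻¹ = w := fun c =>
    mul_inv_eq_iff_eq_mul.2 (Subgroup.mem_centralizer_singleton_iff.1 c.2)
  let W : Subgroup ↥C := Subgroup.zpowers w'
  have hW : ∀ x ∈ W, x = 1 ∨ x = w' := by
    intro x hx
    obtain ⟨i, rfl⟩ := Subgroup.mem_zpowers_iff.1 hx
    have h2 : w' ^ (2 : ℤ) = 1 := by rw [zpow_two]; exact Subtype.ext hww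
    rcases Int.even_or_odd i with ⟨k, rfl⟩ | ⟨k, rfl⟩
    · exact Or.inl (by rw [← two_mul, zpow_mul, h2, one_zpow])
    · exact Or.inr (by rw [zpow_add, zpow_mul, h2, one_zpow, one_mul, zpow_one])
  haveI : W.Normal := ⟨fun x hx c => by
    rcases hW x hx with rfl | rfl
    · simpa using W.one_mem
    · rw [show c * w' * c⁻¹ = w' from Subtype.ext (hwc c)]
      exact hx⟩
  let π := QuotientGroup.mk' W
  set t := π ⟨e, hAC he⟩ with ht
  have htt : t * t = 1 := by
    rw [ht, ← map_mul, show (⟨e, hAC he⟩ : ↥C) * ⟨e, hAC he⟩ = 1 from Subtype.ext (hA e he), map_one]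
  have hpi : ∀ {a b : ↥C}, π a = π b → (b : R) = a ∨ (b : R) = a * w := by
    intro a b h
    rcases hW _ (QuotientGroup.eq.1 h) with e' | e'
    · exact Or.inl (congrArg Subtype.val (inv_mul_eq_one.1 e').symm)
    · exact Or.inr (congrArg Subtype.val (inv_mul_eq_iff_eq_mul.1 e'))
  have ht1 : t ≠ 1 := fun h => by
    rcases hpi (a := (1 : ↥C)) (b := ⟨e, hAC he⟩) (by rw [map_one]; exact h.symm) with e' | e'
    · exact he1 e'
    · exact hew (e'.trans (one_mul w))
  -- isolation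
  have hA2 : IsPGroup 2 (A.subgroupOf C) := two_of_sq fun b hb => Subtype.ext (hA b hb)
  obtain ⟨T, hT⟩ := hA2.exists_le_sylow
  let Tb := T.mapSurjective (QuotientGroup.mk'_surjective W)
  have htT : t ∈ Tb := by
    show t ∈ (Tb : Subgroup _)
    rw [Sylow.coe_mapSurjective]
    exact ⟨_, hT (show (⟨e, hAC he⟩ : ↥C) ∈ A.subgroupOf C from he), rfl⟩
  have hiso : Char.OddInvol t := by
    refine Char.oddInvol_of_isolated_sylow (orderOf_eq_prime (by rw [pow_two, htt]) ht1) htT fun g hg => ?_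
    change g * t * g⁻¹ ∈ (Tb : Subgroup _) at hg
    rw [Sylow.coe_mapSurjective] at hg
    obtain ⟨s, hs, hse⟩ := hg
    obtain ⟨g, rfl⟩ := QuotientGroup.mk'_surjective W g
    rw [ht, ← map_inv, ← map_mul, ← map_mul] at hse ⊢
    have hconj : ((g * ⟨e, hAC he⟩ * g⁻¹ : ↥C) : R) ∈ ((T : Subgroup ↥C).map C.subtype) := by
      rcases hpi hse with e' | e'
      · exact ⟨s, hs, e'.symm⟩
      · exact ⟨s * w', (T : Subgroup ↥C).mul_mem hs (hT hw), e'.symm⟩
    have h1 : (g : R) * e * (g : R)⁻¹ ∈ A := hcl _ (T.2.map C.subtype)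
      (fun a ha => ⟨⟨a, hAC ha⟩, hT ha, rfl⟩) e he g hconj
    refine QuotientGroup.eq.2 ?_
    rcases hpres g (hwc g) h1 with e' | e'
    · rw [show g * ⟨e, hAC he⟩ * g⁻¹ = (⟨e, hAC he⟩ : ↥C) from Subtype.ext e', inv_mul_cancel]
      exact W.one_mem
    · rw [show g * ⟨e, hAC he⟩ * g⁻¹ = ⟨e, hAC he⟩ * w' from Subtype.ext e', mul_inv_rev, mul_assoc,
        inv_mul_cancel, mul_one]
      exact W.inv_mem (Subgroup.mem_zpowers w')
  -- the centraliser of the image
  have hcent : Group.IsSolvable ↥(Subgroup.centralizer ({t} : Set (↥C ⧸ W))) := by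
    let P := ((Subgroup.centralizer ({t} : Set (↥C ⧸ W))).comap π)
    have hP : Group.IsSolvable ↥(P.map C.subtype) := by
      refine solvable_pair (e := e) (f := e * w) ?_ hsol
      rintro _ ⟨c, hc, rfl⟩
      have h1 : π c * t = t * π c := Subgroup.mem_centralizer_singleton_iff.1 hc
      have hec : (c : R) * (e * w) * (c : R)⁻¹ = (c : R) * e * (c : R)⁻¹ * w := by
        rw [← conj_mul, hwc]
      have h2 : π ⟨e, hAC he⟩ = π (c * ⟨e, hAC he⟩ * c⁻¹) := by
        rw [map_mul, map_mul, map_inv, ← ht, h1, mul_inv_cancel_right]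
      rcases hpi h2 with e' | e'
      · have e'' : (c : R) * e * (c : R)⁻¹ = e := e'
        exact Or.inl ⟨e'', by rw [Subgroup.subtype_apply, hec, e'']⟩
      · have e'' : (c : R) * e * (c : R)⁻¹ = e * w := e'
        exact Or.inr ⟨e'', by rw [Subgroup.subtype_apply, hec, e'', mul_assoc, hww, mul_one]⟩
    let g : ↥(P.map C.subtype) →* ↥(Subgroup.centralizer ({t} : Set (↥C ⧸ W))) :=
      ((π.comp P.subtype).codRestrict _ fun c => c.2).comp
        (P.equivMapOfInjective C.subtype C.subtype_injective).symm.toMonoidHom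
    haveI := hP
    refine Group.isSolvable_of_surjective (f := g) fun y => ?_
    obtain ⟨c, hc⟩ := QuotientGroup.mk'_surjective W (y : ↥C ⧸ W)
    have hcP : c ∈ P := show π c ∈ _ by rw [hc]; exact y.2
    exact ⟨P.equivMapOfInjective C.subtype C.subtype_injective ⟨c, hcP⟩, by simp [g]; exact Subtype.ext hc⟩
  have hX := solvable_of_central_invol (StrongProd.solvable_of_odd (Char.card_oddCore_odd _)) htt hiso hcent
  exact solvable_ext W (Group.isSolvable_of_comm fun a b => mul_comm' a b) hX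

variable {H : Type u} [Group H] [Finite H] (K : Ctx H)

namespace Ctx

variable (hz : ∀ h : H, Commute K.g.z h)
include hz

theorem solvable_Cp : Group.IsSolvable ↥K.Cp := by
  classical
  haveI : Fact (Nat.Prime 2) := ⟨Nat.prime_two⟩
  obtain ⟨hstr, -⟩ := structure_Cp K hz
  let C := K.Cp
  haveI : (Cfsg.oddCore ↥C).Normal := StrongProd.oddCore_normal _
  let π := QuotientGroup.mk' (Cfsg.oddCore ↥C)
  refine solvable_ext _ (StrongProd.solvable_of_odd (Char.card_oddCore_odd _)) ?_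
  obtain ⟨PA, hPA⟩ := (sylA K hz).exists_sylow_subgroupOf
  let Ab := PA.mapSurjective (QuotientGroup.mk'_surjective (Cfsg.oddCore ↥C))
  have hAb : (Ab : Subgroup _) = (K.A.subgroupOf C).map π := by rw [Sylow.coe_mapSurjective, hPA]
  haveI : (Ab : Subgroup (↥C ⧸ Cfsg.oddCore ↥C)).Normal := by
    constructor
    intro v hv y
    obtain ⟨c, rfl⟩ := QuotientGroup.mk'_surjective (Cfsg.oddCore ↥C) y
    obtain ⟨l, n, hl, hn, hnA, hcln⟩ := hstr c c.2
    have hnN : (⟨n, hn⟩ : ↥C) ∈ Subgroup.normalizer (K.A.subgroupOf C : Set ↥C) :=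
      Fusion.mem_normalizer_of_cj_le fun _ ⟨a, ha, e⟩ => e ▸ hnA _ ha
    have hlC : l ∈ C := by
      have : l = (c : H) * n⁻¹ := by rw [hcln]; group
      rw [this]
      exact C.mul_mem c.2 (C.inv_mem hn)
    have hlA : π ⟨l, hlC⟩ ∈ (Ab : Subgroup _) := by
      have h1 : (⟨l, hlC⟩ : ↥C) ∈ K.A.subgroupOf C ⊔ Cfsg.oddCore ↥C := by
        rw [← Subgroup.mem_map_iff_mem C.subtype_injective, Subgroup.map_sup,
          Subgroup.map_subgroupOf_eq_of_le K.A_le_Cp]
        exact hl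
      have h2 := Subgroup.mem_map_of_mem π h1
      rwa [Subgroup.map_sup, QuotientGroup.map_mk'_self, sup_bot_eq, ← hAb] at h2
    have hc : π c = π ⟨l, hlC⟩ * π ⟨n, hn⟩ := by rw [← map_mul]; exact congrArg π (Subtype.ext hcln)
    rw [hc, show π ⟨l, hlC⟩ * π ⟨n, hn⟩ * v * (π ⟨l, hlC⟩ * π ⟨n, hn⟩)⁻¹ =
      π ⟨l, hlC⟩ * (π ⟨n, hn⟩ * v * (π ⟨n, hn⟩)⁻¹) * (π ⟨l, hlC⟩)⁻¹ by group]
    refine mul_mem (mul_mem hlA ?_) (inv_mem hlA)
    rw [hAb] at hv ⊢
    obtain ⟨a, ha, rfl⟩ := hv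
    rw [← map_inv, ← map_mul, ← map_mul]
    exact ⟨_, (Subgroup.mem_normalizer_iff.1 hnN a).1 ha, rfl⟩
  haveI : Group.IsNilpotent ↥(Ab : Subgroup (↥C ⧸ Cfsg.oddCore ↥C)) := Ab.2.isNilpotent
  refine solvable_ext (Ab : Subgroup (↥C ⧸ Cfsg.oddCore ↥C)) inferInstance ?_
  exact Lie.CoreFun.solvable_of_odd (Nat.not_even_iff_odd.1 fun h => Ab.not_dvd_index h.two_dvd)

theorem solvable_Pair_p : Group.IsSolvable ↥(K.Pair hz K.p) := by
  refine solvable_pair (e := K.p) (f := K.p * K.g.z) (fun h hh => ?_) (solvable_Cp K hz)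
  have hshift : h * (K.p * K.g.z) * h⁻¹ = h * K.p * h⁻¹ * K.g.z := by rw [← conj_mul, fix_z K hz h]
  rcases hh with e | e
  · exact Or.inl ⟨e, by rw [hshift, e]⟩
  · exact Or.inr ⟨e, by rw [hshift, e, mul_assoc, K.g.zz, mul_one]⟩

end Ctx

end Cfsg.Agent.Lie.JankoSylow
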