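import Cfsg.Agent.Lib.Lie.JankoSylow.Parabolic

/-!
With `z` central, the core `Q` is strongly closed.
-/

set_option autoImplicit false
set_option linter.style.haveILetI false
set_option linter.unusedSectionVars false

namespace Cfsg.Agent.Lie.JankoSylow

open Cfsg.Agent.Fusion (SylIn)

universe u

variable {H : Type u} [Group H] [Finite H] (K : Ctx H)

namespace Ctx

/-- the stabiliser of `{x, x z}` -/
def Pair (hz : ∀ h : H, Commute K.g.z h) (x : H) : Subgroup H where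
  carrier := {h | h * x * h⁻¹ = x ∨ h * x * h⁻¹ = x * K.g.z}
  one_mem' := Or.inl (by group)
  mul_mem' := by
    intro a b ha hb
    have e : ∀ w, a * (w * K.g.z) * a⁻¹ = a * w * a⁻¹ * K.g.z := fun w => by
      rw [← mul_assoc, mul_assoc (a * w), (hz a⁻¹).eq, ← mul_assoc]
    show a * b * x * (a * b)⁻¹ = x ∨ a * b * x * (a * b)⁻¹ = x * K.g.z
    rw [show a * b * x * (a * b)⁻¹ = a * (b * x * b⁻¹) * a⁻¹ by group]
    rcases hb with hb | hb <;> rw [hb]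
    · exact ha
    · rw [e]
      rcases ha with ha | ha <;> rw [ha]
      · exact Or.inr rfl
      · exact Or.inl (by rw [mul_assoc, K.g.zz, mul_one])
  inv_mem' := by
    intro a ha
    show a⁻¹ * x * a⁻¹⁻¹ = x ∨ a⁻¹ * x * a⁻¹⁻¹ = x * K.g.z
    rcases ha with ha | ha
    · left
      conv_lhs => rw [← ha]
      group
    · right
      have h1 : x = a⁻¹ * (x * K.g.z) * a := by rw [← ha]; group
      rw [inv_inv]
      calc a⁻¹ * x * a = a⁻¹ * (x * K.g.z) * K.g.z * a := by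
            rw [mul_assoc a⁻¹ (x * K.g.z), mul_assoc x, K.g.zz, mul_one]
        _ = a⁻¹ * (x * K.g.z) * a * K.g.z := by rw [mul_assoc _ K.g.z, (hz a).eq, ← mul_assoc]
        _ = x * K.g.z := by rw [← h1]

variable (hz : ∀ h : H, Commute K.g.z h)
include hz

theorem mem_Pair {h x : H} : h ∈ K.Pair hz x ↔ h * x * h⁻¹ = x ∨ h * x * h⁻¹ = x * K.g.z := Iff.rfl

theorem comZ_pair {x y : H} (h : K.ComZ y x) : x ∈ K.Pair hz y := by
  rcases h with e | e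
  · exact Or.inl (mul_inv_eq_iff_eq_mul.2 e.symm)
  · refine Or.inr ?_
    rw [show x * y = K.g.z * (y * x) by rw [e, ← mul_assoc, K.g.zz, one_mul]]
    calc K.g.z * (y * x) * x⁻¹ = K.g.z * y := by group
      _ = y * K.g.z := (hz y).eq

theorem Q_le_Pair {x : H} (hx : x ∈ K.Q) : K.Q ≤ K.Pair hz x := fun y hy =>
  comZ_pair K hz ((K.Q_sq hx).2 y hy)

theorem cj_facts {g : H} {R : Subgroup H} (hsq : ∀ x ∈ R, x * x ∈ K.Z) (hcom : ∀ x ∈ R, ∀ y ∈ R, K.ComZ x y) :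
    (∀ x ∈ Fusion.cj R g, x * x ∈ K.Z) ∧ ∀ x ∈ Fusion.cj R g, ∀ y ∈ Fusion.cj R g, K.ComZ x y := by
  refine ⟨?_, ?_⟩
  · rintro _ ⟨x, hx, rfl⟩
    show g * x * g⁻¹ * (g * x * g⁻¹) ∈ K.Z
    rw [conj_mul]
    rcases K.Z_iff.1 (hsq x hx) with e | e <;> rw [e]
    · rw [mul_one, mul_inv_cancel]
      exact K.Z.one_mem
    · rw [fix_z K hz g]
      exact K.z_mem_Z
  · rintro _ ⟨x, hx, rfl⟩ _ ⟨y, hy, rfl⟩
    show g * x * g⁻¹ * (g * y * g⁻¹) = g * y * g⁻¹ * (g * x * g⁻¹) ∨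
      g * x * g⁻¹ * (g * y * g⁻¹) = K.g.z * (g * y * g⁻¹ * (g * x * g⁻¹))
    rw [conj_mul, conj_mul]
    rcases hcom x hx y hy with e | e
    · exact Or.inl (by rw [e])
    · refine Or.inr ?_
      rw [e]
      conv_rhs => rw [show K.g.z * (g * (y * x) * g⁻¹) = K.g.z * g * (y * x) * g⁻¹ by group, (hz g).eq]
      group

theorem core_cj {g : H} (hg : Fusion.cj K.Q g ≤ (K.S : Subgroup H)) : Fusion.cj K.Q g = K.Q := by
  obtain ⟨h1, h2⟩ := cj_facts K hz (R := K.Q) (g := g) (fun x hx => (K.Q_sq hx).1) fun x hx => (K.Q_sq hx).2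
  exact K.core_eq hg (by rw [Fusion.card_cj, K.card_facts.1]) h1 h2

/-- in a 2-group every conjugate of the core is the core -/
theorem core_weak {T : Subgroup H} (hT : IsPGroup 2 T) (hQT : K.Q ≤ T) {g : H} (hg : Fusion.cj K.Q g ≤ T) :
    Fusion.cj K.Q g = K.Q := by
  haveI : Fact (Nat.Prime 2) := ⟨Nat.prime_two⟩
  obtain ⟨x, -, hx⟩ := (Fusion.sylIn_top K.S).conj_le hT le_top
  have h1 := core_cj K hz ((Fusion.cj_mono hQT x).trans hx)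
  have h2 : Fusion.cj K.Q (x * g) = K.Q := core_cj K hz (by
    rw [← Fusion.cj_cj]; exact (Fusion.cj_mono hg x).trans hx)
  rw [← Fusion.cj_cj] at h2
  have h3 := congrArg (fun U => Fusion.cj U x⁻¹) (h2.trans h1.symm)
  simpa [Fusion.cj_cj_inv] using h3

theorem Q_norm {s : H} (hs : s ∈ (K.S : Subgroup H)) : ∀ q ∈ K.Q, s * q * s⁻¹ ∈ K.Q := fun q hq => by
  have h1 : Fusion.cj K.Q s = K.Q := core_cj K hz fun _ ⟨x, hx, e⟩ => e ▸
    (K.S : Subgroup H).mul_mem ((K.S : Subgroup H).mul_mem hs (K.Q_le hx)) ((K.S : Subgroup H).inv_mem hs)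
  exact h1 ▸ ⟨q, hq, rfl⟩

/-- elements of `C(p)` move no element of the core out of it within `S` -/
theorem closed_Cp {h x : H} (hh : h ∈ K.Cp) (hx : x ∈ K.Q) (ht : h * x * h⁻¹ ∈ (K.S : Subgroup H)) :
    h * x * h⁻¹ ∈ K.Q := by
  classical
  haveI : Fact (Nat.Prime 2) := ⟨Nat.prime_two⟩
  obtain ⟨hstr, hodd⟩ := structure_Cp K hz
  obtain ⟨l, n, hl, hn, hnA, rfl⟩ := hstr h hh
  have hu := K.uu_facts
  set u := K.uu
  have huS : u ∈ (K.S : Subgroup H) := K.Q_le hu.1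
  -- `S` normalises `E`
  have hSN : (K.S : Subgroup H) ≤ Subgroup.normalizer (K.Ep : Set H) := by
    intro s hs
    refine Fusion.mem_normalizer_of_cj_le fun _ ⟨e, he, e'⟩ => e' ▸ Ep_conj K hz (h := s) ?_ he
    refine Fusion.mem_normalizer_of_cj_le ?_
    rintro _ ⟨c, hc, rfl⟩
    show s * c * s⁻¹ ∈ K.Cp
    rw [K.mem_Cp]
    have hsp : s * K.p * s⁻¹ = K.p ∨ s * K.p * s⁻¹ = K.p * K.g.z := by
      have h1 : s * K.p * s⁻¹ ∈ K.Q := Q_norm K hz hs _ K.p_facts.2.2.1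
      have h2 : s * K.p * s⁻¹ * (s * K.p * s⁻¹) = 1 := by rw [conj_mul, K.p_facts.2.2.2.1]; group
      have h3 : s * K.p * s⁻¹ ∈ K.A := by
        refine K.A_iff.2 ⟨K.Q_le h1, ?_⟩
        have h4 : s * K.p * s⁻¹ * K.p⁻¹ ∈ K.Q := K.Q.mul_mem h1 (K.Q.inv_mem K.p_facts.2.2.1)
        rcases (K.Q_sq h1).2 K.p K.p_facts.2.2.1 with e | e
        · exact e
        · exfalso
          obtain ⟨m, hm, hme⟩ := K.exists_code hs
          obtain ⟨m', hm', hinv⟩ := exists_inv m hm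
          have hsi : s⁻¹ = K.g.φ m' := inv_eq_of_mul_eq_one_right (by
            rw [← hme, K.g.φ_mul m hm m' hm', hinv, K.g.φ_zero])
          have hd : ∀ a < 128, ∀ b < 128, mc a b = 0 → comB (mc (mc a cp) b) cp = true := by decide +kernel
          have hc := (K.comB_iff (mc_lt _ (mc_lt m hm cp (by decide)) m' hm') (by decide)).1 (hd m hm m' hm' hinv)
          rw [← K.g.φ_mul _ (mc_lt m hm cp (by decide)) m' hm', ← K.g.φ_mul m hm cp (by decide), hme, ← hsi] at hc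
          change s * K.p * s⁻¹ * K.p = K.p * (s * K.p * s⁻¹) at hc
          rw [← hc] at e
          exact K.z_ne (right_eq_mul.1 e)
      rcases K.ZA_iff.1 (K.invol_AQ_mem h3 h1 h2) with e | e | e | e
      · exact absurd (conj_eq_one_iff.1 e) fun e' => K.p_facts.2.2.2.2 (e' ▸ K.Z.one_mem)
      · refine absurd ?_ K.p_facts.2.2.2.2
        rw [← fix_z K hz s] at e
        rw [mul_left_cancel (mul_right_cancel e)]
        exact K.z_mem_Z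
      · exact Or.inl e
      · exact Or.inr e
    have hcp : Commute c K.p := K.mem_Cp.1 hc
    have hsc : Commute (s * c * s⁻¹) (s * K.p * s⁻¹) := (Commute.conj_iff s).2 hcp
    rcases hsp with e | e <;> rw [e] at hsc
    · exact hsc
    · have := hsc.mul_right (hz (s * c * s⁻¹)).symm
      rwa [mul_assoc K.p, K.g.zz, mul_one] at this
  have hASle : K.A ⊔ K.Ep ≤ (K.S : Subgroup H) ⊔ K.Ep := sup_le_sup_right K.A_le _
  -- the commutator of `u` and `n` lies in `A E`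
  have hcomm : u⁻¹ * (n * u * n⁻¹) ∈ K.A ⊔ K.Ep := by
    have huA : ∀ a ∈ K.A, u⁻¹ * a * u ∈ K.A := by
      have key : ∀ a < 128, inA a = true → inA (mc (mc 1 a) 1) = true := by decide +kernel
      intro a ha
      obtain ⟨m, hm, hf, rfl⟩ := ha
      rw [inv_eq_of_mul_eq_one_right hu.2.2.1]
      show K.g.φ 1 * K.g.φ m * K.g.φ 1 ∈ K.A
      rw [K.g.φ_mul 1 (by norm_num) m hm, K.g.φ_mul _ (mc_lt 1 (by norm_num) m hm) 1 (by norm_num)]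
      exact (K.coded_iff (mc_lt _ (mc_lt 1 (by norm_num) m hm) 1 (by norm_num))).2 (key m hm hf)
    have huA' : ∀ a ∈ K.A, u * a * u⁻¹ ∈ K.A := fun a ha => by
      have := huA a ha
      rwa [inv_eq_of_mul_eq_one_right hu.2.2.1] at this ⊢
    set c := u⁻¹ * (n * u * n⁻¹) with hc
    have hcC : c ∈ K.Cp := by
      have huN : ∀ v ∈ K.Cp, u⁻¹ * v * u ∈ K.Cp := by
        intro v hv
        have h1 : u⁻¹ * K.p * u = K.p ∨ u⁻¹ * K.p * u = K.p * K.g.z := by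
          have h0 := (mem_Pair K hz).1 (Q_le_Pair K hz K.p_facts.2.2.1 (K.Q.inv_mem hu.1))
          rwa [inv_inv] at h0
        refine K.mem_Cp.2 ?_
        have hsc : Commute (u⁻¹ * v * u) (u⁻¹ * K.p * u) := by
          have := (Commute.conj_iff u⁻¹).2 (K.mem_Cp.1 hv)
          rwa [inv_inv] at this
        rcases h1 with e | e <;> rw [e] at hsc
        · exact hsc
        · have := hsc.mul_right (hz (u⁻¹ * v * u)).symm
          rwa [mul_assoc K.p, K.g.zz, mul_one] at this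
      have := K.Cp.mul_mem (huN n hn) (K.Cp.inv_mem hn)
      rw [hc, show u⁻¹ * (n * u * n⁻¹) = u⁻¹ * n * u * n⁻¹ by group]
      exact this
    have hni : ∀ a ∈ K.A, n⁻¹ * a * n ∈ K.A := by
      intro a ha
      have hN : n ∈ Subgroup.normalizer (K.A : Set H) :=
        Fusion.mem_normalizer_of_cj_le fun _ ⟨b, hb, e⟩ => e ▸ hnA b hb
      simpa using (Subgroup.mem_normalizer_iff.1 (inv_mem hN) a).1 ha
    have hcA : ∀ a ∈ K.A, c * a * c⁻¹ ∈ K.A := by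
      intro a ha
      rw [hc, show u⁻¹ * (n * u * n⁻¹) * a * (u⁻¹ * (n * u * n⁻¹))⁻¹ = u⁻¹ * (n * (u * (n⁻¹ * a * n) * u⁻¹) * n⁻¹) * u by
        group]
      exact huA _ (hnA _ (huA' _ (hni a ha)))
    have hmodZ : ∀ w ∈ K.Q, ∀ q ∈ K.Q, w * q * w⁻¹ = q ∨ w * q * w⁻¹ = q * K.g.z := fun w hw q hq =>
      Q_le_Pair K hz hq hw
    have hnpres := (pres K hz hn hnA).1
    have hc0 : ∀ q ∈ K.Q ⊓ K.A, q⁻¹ * (c * q * c⁻¹) ∈ K.ZA := by
      intro q hq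
      have hN : n ∈ Subgroup.normalizer (K.A : Set H) :=
        Fusion.mem_normalizer_of_cj_le fun _ ⟨b, hb, e⟩ => e ▸ hnA b hb
      have hq1 : n⁻¹ * q * n ∈ K.Q ⊓ K.A := by
        have := (pres K hz (K.Cp.inv_mem hn) (fun a ha => by simpa using hni a ha)).1 q hq
        simpa using this
      have e1 : c * q * c⁻¹ = u⁻¹ * (n * (u * (n⁻¹ * q * n) * u⁻¹) * n⁻¹) * u := by rw [hc]; group
      rw [e1]
      have h2 : ∀ w, u⁻¹ * (w * K.g.z) * u = u⁻¹ * w * u * K.g.z := fun w => by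
        rw [← mul_assoc, mul_assoc (u⁻¹ * w), (hz u).eq, ← mul_assoc]
      have h3 : ∀ w, n * (w * K.g.z) * n⁻¹ = n * w * n⁻¹ * K.g.z := fun w => by
        rw [← mul_assoc, mul_assoc (n * w), (hz n⁻¹).eq, ← mul_assoc]
      have h4 := hmodZ u⁻¹ (K.Q.inv_mem hu.1) q hq.1
      rw [inv_inv] at h4
      have hzz' : K.g.z ∈ K.ZA := K.Z_le_ZA K.z_mem_Z
      rcases hmodZ u hu.1 _ hq1.1 with e | e <;> rw [e]
      · rw [show n * (n⁻¹ * q * n) * n⁻¹ = q by group]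
        rcases h4 with e' | e' <;> rw [e'] <;> simp [hzz', K.ZA.one_mem]
      · rw [h3, h2, show n * (n⁻¹ * q * n) * n⁻¹ = q by group]
        rcases h4 with e' | e' <;> rw [e'] <;> simp [hzz', mul_assoc, K.g.zz, K.ZA.one_mem]
    obtain ⟨y, d, hyd, hy2, hdo, hym, hdm⟩ := exists_parts c
    have hmem : ∀ v ∈ Subgroup.zpowers c, v ∈ K.Cp ∧ ∀ a ∈ K.A, v * a * v⁻¹ ∈ K.A := by
      intro v hv
      have hN : c ∈ Subgroup.normalizer (K.A : Set H) ⊓ K.Cp :=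
        ⟨Fusion.mem_normalizer_of_cj_le fun _ ⟨a, ha, e⟩ => e ▸ hcA a ha, hcC⟩
      have := Subgroup.zpowers_le.2 hN hv
      exact ⟨this.2, fun a ha => (Subgroup.mem_normalizer_iff.1 this.1 a).1 ha⟩
    have hyA : y ∈ K.A := two_elt_mem K hz hy2 (hmem y hym).1 (hmem y hym).2
    have hcy : ∀ q ∈ K.Q ⊓ K.A, q⁻¹ * (d * q * d⁻¹) ∈ K.ZA := by
      intro q hq
      have e : d = y⁻¹ * c := by rw [hyd]; group
      have hq' : c * q * c⁻¹ ∈ K.A := hcA q hq.2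
      have h1 := (K.A_sq (K.A.inv_mem hyA)).2 (c * q * c⁻¹) hq'
      have hq2 := hc0 q hq
      rw [e, show q⁻¹ * (y⁻¹ * c * q * (y⁻¹ * c)⁻¹) =
        q⁻¹ * (y⁻¹ * (c * q * c⁻¹) * y⁻¹⁻¹ * (c * q * c⁻¹)⁻¹) * q * (q⁻¹ * (c * q * c⁻¹)) by group]
      refine K.ZA.mul_mem ?_ hq2
      have hc1 := (K.ZA_facts h1).2.2.2 q hq.2
      rw [mul_assoc, hc1.eq, inv_mul_cancel_left]
      exact h1
    have hdE : d ∈ K.Ep := hodd d (hmem d hdm).1 hdo fun a ha =>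
      odd_central K hz (hmem d hdm).1 (hmem d hdm).2 hdo inf_le_right
        (fun v hv h => K.cent_AQ hv fun w hw hw' => h w ⟨hw, hw'⟩) hcy
        (normB K hz (fun v hv => ⟨(K.ZA_facts hv).2.1, (K.ZA_facts hv).1⟩) inf_le_right) ha
    rw [hyd]
    exact Subgroup.mul_mem _ (Subgroup.mem_sup_left hyA) (Subgroup.mem_sup_right hdE)
  -- so `n` normalises `S E`
  have hdec : ∀ v ∈ (K.S : Subgroup H) ⊔ K.Ep, ∃ s ∈ (K.S : Subgroup H), ∃ e ∈ K.Ep, v = s * e := by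
    intro v hv
    rw [← SetLike.mem_coe, Subgroup.coe_mul_of_left_le_normalizer_right _ _ hSN] at hv
    obtain ⟨s, hs, e, he, rfl⟩ := hv
    exact ⟨s, hs, e, he, rfl⟩
  have hnS : ∀ s ∈ (K.S : Subgroup H), n * s * n⁻¹ ∈ (K.S : Subgroup H) ⊔ K.Ep := by
    intro s hs
    by_cases hA : s ∈ K.A
    · exact Subgroup.mem_sup_left (K.A_le (hnA s hA))
    · have hsu : u⁻¹ * s ∈ K.A := by
        have key : ∀ a < 128, inA a = false → inA (mc 1 a) = true := by decide +kernel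
        obtain ⟨m, hm, rfl⟩ := K.exists_code hs
        rw [inv_eq_of_mul_eq_one_right hu.2.2.1]
        show K.g.φ 1 * K.g.φ m ∈ K.A
        rw [K.g.φ_mul 1 (by norm_num) m hm]
        refine (K.coded_iff (mc_lt 1 (by norm_num) m hm)).2 (key m hm ?_)
        rw [← Bool.not_eq_true]
        exact fun h => hA ((K.coded_iff hm).2 h)
      rw [show n * s * n⁻¹ = u * (u⁻¹ * (n * u * n⁻¹)) * (n * (u⁻¹ * s) * n⁻¹) by group]
      exact Subgroup.mul_mem _ (Subgroup.mul_mem _ (Subgroup.mem_sup_left huS) (hASle hcomm))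
        (Subgroup.mem_sup_left (K.A_le (hnA _ hsu)))
  -- the projection of `n Q n⁻¹` is the core
  have huniq : ∀ s₁ ∈ (K.S : Subgroup H), ∀ e₁ ∈ K.Ep, ∀ s₂ ∈ (K.S : Subgroup H), ∀ e₂ ∈ K.Ep,
      s₁ * e₁ = s₂ * e₂ → s₁ = s₂ := by
    intro s₁ h1 e₁ h2 s₂ h3 e₂ h4 e
    have h5 : s₂⁻¹ * s₁ = e₂ * e₁⁻¹ := by
      calc s₂⁻¹ * s₁ = s₂⁻¹ * (s₁ * e₁) * e₁⁻¹ := by group
        _ = s₂⁻¹ * (s₂ * e₂) * e₁⁻¹ := by rw [e]
        _ = _ := by group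
    have h6 : IsPGroup 2 (Subgroup.zpowers (s₂⁻¹ * s₁)) := K.S.2.to_le
      (Subgroup.zpowers_le.2 ((K.S : Subgroup H).mul_mem ((K.S : Subgroup H).inv_mem h3) h1))
    have h7 := Ep_inter K hz (e := s₂⁻¹ * s₁) (h5 ▸ K.Ep.mul_mem h4 (K.Ep.inv_mem h2)) h6
    exact (inv_mul_eq_one.1 h7).symm
  have hproj : ∀ v ∈ (K.S : Subgroup H) ⊔ K.Ep, ∃ s ∈ (K.S : Subgroup H), ∃ e ∈ K.Ep, v = s * e := hdec
  choose! π hπS ε hε hπ using hproj
  have hπmul : ∀ v ∈ (K.S : Subgroup H) ⊔ K.Ep, ∀ w ∈ (K.S : Subgroup H) ⊔ K.Ep, π (v * w) = π v * π w := by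
    intro v hv w hw
    have he : (π w)⁻¹ * ε v * π w * ε w ∈ K.Ep := by
      refine K.Ep.mul_mem ?_ (hε w hw)
      simpa using (Subgroup.mem_normalizer_iff.1 (hSN ((K.S : Subgroup H).inv_mem (hπS w hw))) _).1 (hε v hv)
    refine huniq _ (hπS _ (Subgroup.mul_mem _ hv hw)) _ (hε _ (Subgroup.mul_mem _ hv hw)) _
      ((K.S : Subgroup H).mul_mem (hπS v hv) (hπS w hw)) _ he ?_
    rw [← hπ _ (Subgroup.mul_mem _ hv hw)]
    conv_lhs => rw [hπ v hv, hπ w hw]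
    group
  have hπZ : ∀ v ∈ K.Z, π v = v := fun v hv => by
    have hvS : v ∈ (K.S : Subgroup H) := K.Q_le (K.Z_le_Q hv)
    exact huniq _ (hπS _ (Subgroup.mem_sup_left hvS)) _ (hε _ (Subgroup.mem_sup_left hvS)) v hvS 1 K.Ep.one_mem
      (by rw [← hπ _ (Subgroup.mem_sup_left hvS), mul_one])
  let R0 := Fusion.cj K.Q n
  have hR0 : R0 ≤ (K.S : Subgroup H) ⊔ K.Ep := fun _ ⟨q, hq, e⟩ => e ▸ hnS q (K.Q_le hq)
  let f : R0 →* H :=
    { toFun := fun v => π v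
      map_one' := hπZ 1 K.Z.one_mem
      map_mul' := fun v w => hπmul v (hR0 v.2) w (hR0 w.2) }
  have hfinj : Function.Injective f := by
    rw [← MonoidHom.ker_eq_bot_iff, eq_bot_iff]
    intro v hv
    rw [Subgroup.mem_bot]
    refine Subtype.ext (Ep_inter K hz ?_ ((Fusion.isPGroup_cj (K.S.2.to_le K.Q_le) n).to_le (Subgroup.zpowers_le.2 v.2)))
    rw [hπ v (hR0 v.2), show π v = 1 from hv, one_mul]
    exact hε v (hR0 v.2)
  obtain ⟨hsq, hcom⟩ := cj_facts K hz (R := K.Q) (g := n) (fun v hv => (K.Q_sq hv).1) fun v hv => (K.Q_sq hv).2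
  have hR : f.range = K.Q := by
    refine K.core_eq ?_ ?_ ?_ ?_
    · rintro _ ⟨v, rfl⟩
      exact hπS v (hR0 v.2)
    · rw [← Nat.card_congr (MonoidHom.ofInjective hfinj).toEquiv, Fusion.card_cj, K.card_facts.1]
    · rintro _ ⟨v, rfl⟩
      rw [← map_mul]
      show π ((v : H) * (v : H)) ∈ K.Z
      rw [hπZ _ (hsq v v.2)]
      exact hsq v v.2
    · rintro _ ⟨v, rfl⟩ _ ⟨w, rfl⟩
      show π v * π w = π w * π v ∨ π v * π w = K.g.z * (π w * π v)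
      rw [← hπmul v (hR0 v.2) w (hR0 w.2), ← hπmul w (hR0 w.2) v (hR0 v.2)]
      rcases hcom v v.2 w w.2 with e | e
      · exact Or.inl (by rw [e])
      · refine Or.inr ?_
        rw [e, hπmul _ (Subgroup.mem_sup_left (K.Q_le (K.Z_le_Q K.z_mem_Z))) _
          (hR0 (R0.mul_mem w.2 v.2)), hπZ _ K.z_mem_Z]
  have hx1 : n * x * n⁻¹ ∈ R0 := ⟨x, hx, rfl⟩
  have hq : π (n * x * n⁻¹) ∈ K.Q := hR ▸ ⟨⟨_, hx1⟩, rfl⟩
  obtain ⟨a, ha, e1, he1, rfl⟩ : ∃ a ∈ K.A, ∃ e ∈ K.Ep, l = a * e := by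
    rw [← SetLike.mem_coe, Subgroup.coe_mul_of_left_le_normalizer_right _ _ (K.A_le.trans hSN)] at hl
    obtain ⟨a, ha, e, he, rfl⟩ := hl
    exact ⟨a, ha, e, he, rfl⟩
  have hV : ∀ v ∈ (K.S : Subgroup H) ⊔ K.Ep, a * e1 * v * (a * e1)⁻¹ ∈ (K.S : Subgroup H) ⊔ K.Ep ∧
      π (a * e1 * v * (a * e1)⁻¹) = a * π v * a⁻¹ := by
    intro v hv
    have hl' : a * e1 ∈ (K.S : Subgroup H) ⊔ K.Ep :=
      Subgroup.mul_mem _ (Subgroup.mem_sup_left (K.A_le ha)) (Subgroup.mem_sup_right he1)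
    have hpl : π (a * e1) = a :=
      huniq _ (hπS _ hl') _ (hε _ hl') a (K.A_le ha) e1 he1 (hπ _ hl').symm
    refine ⟨Subgroup.mul_mem _ (Subgroup.mul_mem _ hl' hv) (Subgroup.inv_mem _ hl'), ?_⟩
    have hpi : π (a * e1)⁻¹ = a⁻¹ := by
      have h1 := hπmul _ hl' _ (Subgroup.inv_mem _ hl')
      rw [mul_inv_cancel, hπZ 1 K.Z.one_mem, hpl] at h1
      exact eq_inv_of_mul_eq_one_right h1.symm
    rw [hπmul _ (Subgroup.mul_mem _ hl' hv) _ (Subgroup.inv_mem _ hl'), hπmul _ hl' _ hv, hpl, hpi]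
  obtain ⟨hmem, heq⟩ := hV _ (hR0 hx1)
  rw [show a * e1 * n * x * (a * e1 * n)⁻¹ = a * e1 * (n * x * n⁻¹) * (a * e1)⁻¹ by group] at ht ⊢
  rw [← huniq _ (hπS _ hmem) _ (hε _ hmem) _ ht 1 K.Ep.one_mem (by rw [mul_one]; exact (hπ _ hmem).symm), heq]
  exact Q_norm K hz (K.A_le ha) _ hq

/-- the core is strongly closed -/
theorem closed {g x : H} (hx : x ∈ K.Q) (ht : g * x * g⁻¹ ∈ (K.S : Subgroup H)) : g * x * g⁻¹ ∈ K.Q := by
  classical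
  haveI : Fact (Nat.Prime 2) := ⟨Nat.prime_two⟩
  by_contra htQ
  have hQ2 : IsPGroup 2 K.Q := K.S.2.to_le K.Q_le
  -- a representative with a Sylow subgroup of its stabiliser inside `S`
  obtain ⟨T, hT, hQT⟩ := Fusion.exists_sylIn_ge hQ2 (Q_le_Pair K hz hx)
  obtain ⟨h, -, hhT⟩ := (Fusion.sylIn_top K.S).conj_le hT.isPGroup le_top
  have hQh : Fusion.cj K.Q h = K.Q := core_cj K hz ((Fusion.cj_mono hQT h).trans hhT)
  set x1 := h * x * h⁻¹ with hx1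
  have hx1Q : x1 ∈ K.Q := hQh ▸ ⟨x, hx, rfl⟩
  have hPx : Fusion.cj (K.Pair hz x) h = K.Pair hz x1 := by
    ext v
    rw [Fusion.mem_cj]
    show (h⁻¹ * v * h * x * (h⁻¹ * v * h)⁻¹ = x ∨ _ = x * K.g.z) ↔ (v * x1 * v⁻¹ = x1 ∨ v * x1 * v⁻¹ = x1 * K.g.z)
    have e : h⁻¹ * v * h * x * (h⁻¹ * v * h)⁻¹ = h⁻¹ * (v * x1 * v⁻¹) * h := by rw [hx1]; group
    have key : ∀ w y : H, h⁻¹ * w * h = y ↔ w = h * y * h⁻¹ := fun w y =>
      ⟨fun e' => by rw [← e']; group, fun e' => by rw [e']; group⟩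
    have e2 : h * (x * K.g.z) * h⁻¹ = x1 * K.g.z := by rw [← conj_mul, fix_z K hz h]
    rw [e, key, key, e2, ← hx1]
  have hT1 : SylIn 2 (Fusion.cj T h) (K.Pair hz x1) := hPx ▸ hT.cj h
  obtain ⟨g1, hg1, hg1def⟩ : ∃ g1 : H, g1 * x1 * g1⁻¹ = g * x * g⁻¹ ∧ g1 = g * h⁻¹ :=
    ⟨_, by rw [hx1]; group, rfl⟩
  set t := g * x * g⁻¹ with htdef
  have htt : t * t ∈ K.Z := by
    obtain ⟨h1, -⟩ := cj_facts K hz (R := K.Q) (g := g) (fun v hv => (K.Q_sq hv).1) fun v hv => (K.Q_sq hv).2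
    exact h1 _ ⟨x, hx, rfl⟩
  set R := (K.S : Subgroup H) ⊓ K.Pair hz t
  have hRle : Fusion.cj R g1⁻¹ ≤ K.Pair hz x1 := by
    rintro _ ⟨v, ⟨-, hv⟩, rfl⟩
    show g1⁻¹ * v * g1⁻¹⁻¹ * x1 * (g1⁻¹ * v * g1⁻¹⁻¹)⁻¹ = x1 ∨
      g1⁻¹ * v * g1⁻¹⁻¹ * x1 * (g1⁻¹ * v * g1⁻¹⁻¹)⁻¹ = x1 * K.g.z
    rw [show g1⁻¹ * v * g1⁻¹⁻¹ * x1 * (g1⁻¹ * v * g1⁻¹⁻¹)⁻¹ = g1⁻¹ * (v * (g1 * x1 * g1⁻¹) * v⁻¹) * g1 by group, hg1]
    rcases hv with e | e <;> rw [e]
    · exact Or.inl (by rw [← hg1]; group)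
    · refine Or.inr ?_
      rw [← hg1]
      conv_lhs => rw [show g1⁻¹ * (g1 * x1 * g1⁻¹ * K.g.z) * g1 = x1 * (g1⁻¹ * (K.g.z * g1)) by group, (hz g1).eq]
      group
  obtain ⟨c, hc, hcle⟩ := hT1.conj_le (Fusion.isPGroup_cj (K.S.2.to_le inf_le_left) g1⁻¹) hRle
  have hsub : Fusion.cj R (c * g1⁻¹) ≤ (K.S : Subgroup H) := by
    rw [← Fusion.cj_cj]; exact hcle.trans hhT
  set g2 := g1 * c⁻¹ with hg2
  have hg2x : g2 * x1 * g2⁻¹ = t ∨ g2 * x1 * g2⁻¹ = t * K.g.z := by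
    have hci := (K.Pair hz x1).inv_mem hc
    rw [mem_Pair] at hci
    rw [hg2, show g1 * c⁻¹ * x1 * (g1 * c⁻¹)⁻¹ = g1 * (c⁻¹ * x1 * c⁻¹⁻¹) * g1⁻¹ by group]
    rcases hci with e | e <;> rw [e]
    · exact Or.inl hg1
    · refine Or.inr ?_
      rw [← conj_mul, hg1, fix_z K hz g1]
  obtain ⟨y, hy, y', hy', hty, hty', hp⟩ := K.outer_pair ht htQ htt
  have hyR : y ∈ R := ⟨hy, comZ_pair K hz hty⟩
  have hy'R : y' ∈ R := ⟨hy', comZ_pair K hz hty'⟩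
  obtain ⟨d, hdQ, hdp⟩ : ∃ d ∈ K.Q, g2 * d * g2⁻¹ = K.p ∨ g2 * d * g2⁻¹ = K.p * K.g.z := by
    have hm : ∀ v ∈ R, g2⁻¹ * v * g2 ∈ (K.S : Subgroup H) := fun v hv =>
      hsub ⟨v, hv, by show c * g1⁻¹ * v * (c * g1⁻¹)⁻¹ = _; rw [hg2]; group⟩
    refine ⟨_, K.Q_comm (hm y hyR) (hm y' hy'R), ?_⟩
    rw [show g2 * ((g2⁻¹ * y' * g2 * (g2⁻¹ * y * g2))⁻¹ * (g2⁻¹ * y * g2 * (g2⁻¹ * y' * g2))) * g2⁻¹ =
      (y' * y)⁻¹ * (y * y') by group]
    rcases hp with e | e <;> rw [e, inv_mul_cancel_left]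
    · exact Or.inl rfl
    · exact Or.inr rfl
  have hle : Fusion.cj K.Q g2 ≤ K.Pair hz K.p := by
    rintro _ ⟨q, hq, rfl⟩
    have h1 : g2 * q * g2⁻¹ * (g2 * d * g2⁻¹) * (g2 * q * g2⁻¹)⁻¹ = g2 * d * g2⁻¹ ∨
        g2 * q * g2⁻¹ * (g2 * d * g2⁻¹) * (g2 * q * g2⁻¹)⁻¹ = g2 * d * g2⁻¹ * K.g.z := by
      rw [show g2 * q * g2⁻¹ * (g2 * d * g2⁻¹) * (g2 * q * g2⁻¹)⁻¹ = g2 * (q * d * q⁻¹) * g2⁻¹ by group]
      rcases Q_le_Pair K hz hdQ hq with e | e <;> rw [e]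
      · exact Or.inl rfl
      · exact Or.inr (by rw [← conj_mul, fix_z K hz g2])
    show g2 * q * g2⁻¹ ∈ K.Pair hz K.p
    rcases hdp with e | e <;> rw [e] at h1
    · exact h1
    · have hshift : ∀ v, v * (K.p * K.g.z) * v⁻¹ = v * K.p * v⁻¹ * K.g.z := fun v => by
        rw [← conj_mul, fix_z K hz v]
      rw [hshift] at h1
      rcases h1 with e' | e'
      · exact Or.inl (mul_right_cancel e')
      · exact Or.inr (mul_right_cancel e')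
  obtain ⟨Tp, hTp, hQTp⟩ := Fusion.exists_sylIn_ge hQ2 (Q_le_Pair K hz K.p_facts.2.2.1)
  obtain ⟨c', hc', hc'le⟩ := hTp.conj_le (Fusion.isPGroup_cj hQ2 g2) hle
  rw [Fusion.cj_cj] at hc'le
  have hn : Fusion.cj K.Q (c' * g2) = K.Q := core_weak K hz hTp.isPGroup hQTp hc'le
  set x2 := c' * g2 * x1 * (c' * g2)⁻¹ with hx2
  have hx2Q : x2 ∈ K.Q := hn ▸ ⟨x1, hx1Q, rfl⟩
  -- reduce to the centraliser of `p`
  have main : ∀ v ∈ K.Pair hz K.p, ∀ w ∈ K.Q, v * w * v⁻¹ ∈ (K.S : Subgroup H) → v * w * v⁻¹ ∈ K.Q := by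
    intro v hv w hw hvw
    rcases hv with e | e
    · exact closed_Cp K hz (K.mem_Cp.2 (mul_inv_eq_iff_eq_mul.1 e)) hw hvw
    · have hu := K.uu_facts
      have hup : K.uu * K.p * K.uu⁻¹ = K.p * K.g.z := by
        refine (Q_le_Pair K hz K.p_facts.2.2.1 hu.1).resolve_left fun e' => hu.2.1 (K.A_iff.2 ⟨K.Q_le hu.1, ?_⟩)
        exact mul_inv_eq_iff_eq_mul.1 e'
      have hvu : v * K.uu⁻¹ ∈ K.Cp := by
        refine K.mem_Cp.2 (mul_inv_eq_iff_eq_mul.1 ?_)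
        rw [inv_eq_of_mul_eq_one_right hu.2.2.1] at hup ⊢
        rw [show v * K.uu * K.p * (v * K.uu)⁻¹ = v * (K.uu * K.p * K.uu⁻¹) * v⁻¹ by group,
          inv_eq_of_mul_eq_one_right hu.2.2.1, hup, ← conj_mul, e, fix_z K hz v, mul_assoc, K.g.zz, mul_one]
      have e2 : v * w * v⁻¹ = v * K.uu⁻¹ * (K.uu * w * K.uu⁻¹) * (v * K.uu⁻¹)⁻¹ := by group
      rw [e2] at hvw ⊢
      exact closed_Cp K hz hvu (Q_norm K hz (K.Q_le hu.1) w hw) hvw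
  have ht2 : c'⁻¹ * x2 * c'⁻¹⁻¹ = g2 * x1 * g2⁻¹ := by rw [hx2]; group
  have hzS := K.Q_le (K.Z_le_Q K.z_mem_Z)
  have hres := main c'⁻¹ ((K.Pair hz K.p).inv_mem hc') x2 hx2Q (by
    rw [ht2]
    rcases hg2x with e | e <;> rw [e]
    · exact ht
    · exact (K.S : Subgroup H).mul_mem ht hzS)
  rw [ht2] at hres
  rcases hg2x with e | e <;> rw [e] at hres
  · exact htQ hres
  · refine htQ ?_
    have := K.Q.mul_mem hres (K.Z_le_Q K.z_mem_Z)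
    rwa [mul_assoc, K.g.zz, mul_one] at this

end Ctx

end Cfsg.Agent.Lie.JankoSylow
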