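import Cfsg.Agent.Lib.Lie.JankoSylow.Closed
import Cfsg.Agent.Lib.Fusion.ThompsonTransferCyclic

/-!
Without a normal subgroup of index two the outer involution of `A` is fused to `p` under the centraliser of `z`.
-/

set_option autoImplicit false
set_option linter.style.haveILetI false
set_option linter.unusedSectionVars false

namespace Cfsg.Agent.Lie.JankoSylow

open Cfsg.Agent.Fusion (SylIn)

universe u

variable {G : Type u} [Group G] [Finite G] (K : Ctx G)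

namespace Ctx

theorem exists_image {H : Type u} [Group H] (f : G →* H) (hf : Function.Surjective f)
    (hinj : ∀ x ∈ (K.S : Subgroup G), f x = 1 → x = 1) :
    ∃ K' : Ctx H, ∀ n, K'.g.φ n = f (K.g.φ n) := by
  haveI : Fact (Nat.Prime 2) := ⟨Nat.prime_two⟩
  refine ⟨⟨K.S.mapSurjective hf, K.g.map f, fun n hn e => ?_, ?_⟩, fun n => K.g.map_φ f n⟩
  · rw [K.g.map_φ] at e
    exact K.faith n hn (hinj _ (K.code_mem hn) e)
  · ext x
    rw [Sylow.coe_mapSurjective]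
    constructor
    · rintro ⟨n, hn, rfl⟩
      exact ⟨_, K.code_mem hn, (K.g.map_φ f n).symm⟩
    · rintro ⟨y, hy, rfl⟩
      obtain ⟨n, hn, rfl⟩ := K.exists_code hy
      exact ⟨n, hn, K.g.map_φ f n⟩

theorem exists_restrict (C : Subgroup G) (hle : (K.S : Subgroup G) ≤ C) :
    ∃ K' : Ctx ↥C, ∀ n, ((K'.g.φ n : ↥C) : G) = K.g.φ n := by
  haveI : Fact (Nat.Prime 2) := ⟨Nat.prime_two⟩
  obtain ⟨hz, ha, hb, hu⟩ := K.g.gen_mem
  let g := K.g.restrict C (hle (K.grp ▸ hz)) (hle (K.grp ▸ ha)) (hle (K.grp ▸ hb))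
    fun i => hle (K.grp ▸ hu i)
  have hval : ∀ n, ((g.φ n : ↥C) : G) = K.g.φ n := fun n => (g.map_φ C.subtype n).symm
  refine ⟨⟨K.S.subtype hle, g, fun n hn e => K.faith n hn ((hval n).symm.trans (by rw [e]; rfl)), ?_⟩, hval⟩
  ext x
  rw [Sylow.coe_subtype, Subgroup.mem_subgroupOf]
  constructor
  · rintro ⟨n, hn, rfl⟩
    rw [hval]
    exact K.code_mem hn
  · intro hx
    obtain ⟨n, hn, e⟩ := K.exists_code hx
    exact ⟨n, hn, Subtype.ext ((hval n).trans e)⟩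

theorem p_ne : K.p ≠ 1 ∧ K.p ≠ K.g.z :=
  ⟨fun e => K.p_facts.2.2.2.2 (e ▸ K.Z.one_mem), fun e => K.p_facts.2.2.2.2 (e ▸ K.z_mem_Z)⟩

/-- `u` goes to `p` up to the centre -/
theorem turn (h2 : ∀ N : Subgroup G, N.Normal → N.index ≠ 2) :
    ∃ g : G, Commute g K.g.z ∧ (g * K.uu * g⁻¹ = K.p ∨ g * K.uu * g⁻¹ = K.p * K.g.z) := by
  classical
  haveI : Fact (Nat.Prime 2) := ⟨Nat.prime_two⟩
  obtain ⟨huQ, huA, huu, q, hqS, huq, hqq⟩ := K.uu_facts
  have huS : K.uu ∈ (K.S : Subgroup G) := K.Q_le huQ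
  have hidx : (K.A.subgroupOf (K.S : Subgroup G)).index = 2 := by
    have h1 := (K.A.subgroupOf (K.S : Subgroup G)).card_mul_index
    rw [Nat.card_congr (Subgroup.subgroupOfEquivOfLe K.A_le).toEquiv, K.card_facts.2.1, K.card_S] at h1
    omega
  haveI : (K.A.subgroupOf (K.S : Subgroup G)).Normal := Subgroup.normal_of_index_eq_two hidx
  have hcard : Nat.card (↥(K.S : Subgroup G) ⧸ K.A.subgroupOf (K.S : Subgroup G)) = 2 := hidx
  have hu2 : orderOf K.uu = 2 :=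
    orderOf_eq_prime (by rw [pow_two, huu]) fun e => huA (e ▸ K.A.one_mem)
  have hkill : ∀ f : G →* (↥(K.S : Subgroup G) ⧸ K.A.subgroupOf (K.S : Subgroup G)), f K.uu = 1 := by
    intro f
    by_contra hne
    refine h2 f.ker inferInstance ?_
    rw [Subgroup.index_ker]
    rcases (Nat.dvd_prime Nat.prime_two).1 (hcard ▸ Subgroup.card_subgroup_dvd_card f.range) with e | e
    · refine absurd ?_ hne
      have := Subgroup.eq_bot_of_card_eq f.range e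
      exact Subgroup.mem_bot.1 (this ▸ MonoidHom.mem_range.2 ⟨_, rfl⟩)
    · exact e
  haveI hcyc : IsCyclic (↥(K.S : Subgroup G) ⧸ K.A.subgroupOf (K.S : Subgroup G)) := isCyclic_of_prime_card hcard
  obtain ⟨g, hgA, -, hgC⟩ := Fusion.extremal_transfer_cyclic_of_kills K.S K.A K.A_le hcyc hu2 huS huA hkill
  have hgq : g * q * g⁻¹ ∈ (K.S : Subgroup G) :=
    (hgC ⟨q, ⟨hqS, Subgroup.mem_centralizer_singleton_iff.2 huq.symm.eq⟩, rfl⟩).1
  set w := g * K.g.z * g⁻¹ with hw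
  have hwsq : g * q * g⁻¹ * (g * q * g⁻¹) = w := by rw [conj_mul, hqq]
  have hwZA : w ∈ K.ZA := hwsq ▸ K.sq_invol_mem hgq (by rw [hwsq, hw, conj_mul, K.g.zz]; group)
  have hzS : K.g.z ∈ (K.S : Subgroup G) := K.Q_le (K.Z_le_Q K.z_mem_Z)
  -- one may take `g` in the centraliser of `z`
  obtain ⟨g', hg'z, hg'A⟩ : ∃ g' : G, g' * K.g.z * g'⁻¹ = K.g.z ∧ g' * K.uu * g'⁻¹ ∈ K.A := by
    by_cases hwz : w = K.g.z
    · exact ⟨g, hwz, hgA⟩
    have hw1 : w ≠ 1 := fun e => K.z_ne (conj_eq_one_iff.1 (hw ▸ e))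
    have hAw : K.A ≤ Subgroup.centralizer ({w} : Set G) := fun a ha =>
      Subgroup.mem_centralizer_singleton_iff.2 ((K.ZA_facts hwZA).2.2.2 a ha).symm.eq
    have hSw : SylIn 2 (Fusion.cj (K.S : Subgroup G) g) (Subgroup.centralizer ({w} : Set G)) := by
      refine (Fusion.sylIn_top_cj K.S g).mono ?_ le_top
      rintro _ ⟨s, hs, rfl⟩
      exact Subgroup.mem_centralizer_singleton_iff.2 ((Commute.conj_iff g).2 (K.z_central hs).symm).eq
    obtain ⟨c, hc, hcA⟩ := hSw.conj_le K.A_two hAw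
    set h := g⁻¹ * c with hh
    have hcA' : Fusion.cj K.A h ≤ (K.S : Subgroup G) := by
      rintro _ ⟨a, ha, rfl⟩
      obtain ⟨s, hs, e⟩ := hcA ⟨a, ha, rfl⟩
      change g * s * g⁻¹ = c * a * c⁻¹ at e
      show h * a * h⁻¹ ∈ (K.S : Subgroup G)
      rw [hh, show g⁻¹ * c * a * (g⁻¹ * c)⁻¹ = g⁻¹ * (c * a * c⁻¹) * g by group, ← e]
      rwa [show g⁻¹ * (g * s * g⁻¹) * g = s by group]
    have hhw : h * w * h⁻¹ = K.g.z := by
      have h1 : c * w * c⁻¹ = w := mul_inv_eq_iff_eq_mul.2 (Subgroup.mem_centralizer_singleton_iff.1 hc)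
      rw [hh, show g⁻¹ * c * w * (g⁻¹ * c)⁻¹ = g⁻¹ * (c * w * c⁻¹) * g by group, h1, hw]
      group
    have hzA : K.g.z ∈ K.A := (K.ZA_facts (K.Z_le_ZA K.z_mem_Z)).1
    have hz' : h * K.g.z * h⁻¹ ∉ K.Z := fun hmem => by
      rcases K.Z_iff.1 hmem with e | e
      · exact K.z_ne (conj_eq_one_iff.1 e)
      · exact hwz (mul_left_cancel (mul_right_cancel (hhw.trans e.symm)))
    have hhA : Fusion.cj K.A h = K.A := by
      refine K.big_eq hcA' (by rw [Fusion.card_cj, K.card_facts.2.1]) (hcA' ⟨_, hzA, rfl⟩) hz' ?_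
      rintro _ ⟨a, ha, rfl⟩
      exact (Commute.conj_iff h).2 ((K.ZA_facts (K.Z_le_ZA K.z_mem_Z)).2.2.2 a ha)
    refine ⟨h * g, ?_, ?_⟩
    · rw [show h * g * K.g.z * (h * g)⁻¹ = h * (g * K.g.z * g⁻¹) * h⁻¹ by group]
      exact hhw
    · rw [show h * g * K.uu * (h * g)⁻¹ = h * (g * K.uu * g⁻¹) * h⁻¹ by group, ← hhA]
      exact ⟨_, hgA, rfl⟩
  -- inside the centraliser of `z`
  set C := Subgroup.centralizer ({K.g.z} : Set G) with hC
  have hle : (K.S : Subgroup G) ≤ C := fun s hs =>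
    Subgroup.mem_centralizer_singleton_iff.2 (K.z_central hs).symm.eq
  obtain ⟨K', hK'⟩ := K.exists_restrict C hle
  have hz : ∀ x : ↥C, Commute K'.g.z x := fun x => Subtype.ext (by
    rw [Subgroup.coe_mul, Subgroup.coe_mul, ← K'.g.φ_gens.1, hK', K.g.φ_gens.1]
    exact (Subgroup.mem_centralizer_singleton_iff.1 x.2).symm)
  have hg'C : g' ∈ C := Subgroup.mem_centralizer_singleton_iff.2 (mul_inv_eq_iff_eq_mul.1 hg'z)
  let x : ↥C := ⟨g', hg'C⟩ * K'.uu * ⟨g', hg'C⟩⁻¹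
  have hxv : (x : G) = g' * K.uu * g'⁻¹ := by
    show g' * ((K'.g.φ 1 : ↥C) : G) * g'⁻¹ = _
    rw [hK']
    rfl
  obtain ⟨m, hm, hmA, hme⟩ := hg'A
  have hxS : x ∈ (K'.S : Subgroup ↥C) := by
    rw [show x = K'.g.φ m from Subtype.ext (by rw [hxv, hK', hme])]
    exact K'.code_mem hm
  have hxA : x ∈ K'.A := ⟨m, hm, hmA, Subtype.ext (by rw [hxv, hK', hme])⟩
  have hxQ : x ∈ K'.Q := closed K' hz K'.uu_facts.1 hxS
  have hxx : x * x = 1 := by
    show _ * K'.uu * _ * (_ * K'.uu * _) = 1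
    rw [conj_mul, K'.uu_facts.2.2.1, mul_one, mul_inv_cancel]
  have huA' := K'.uu_facts.2.1
  refine ⟨g', mul_inv_eq_iff_eq_mul.1 hg'z, ?_⟩
  have hpz : ((K'.p : ↥C) : G) = K.p ∧ ((K'.g.z : ↥C) : G) = K.g.z :=
    ⟨hK' _, by rw [← K'.g.φ_gens.1, hK', K.g.φ_gens.1]⟩
  rcases K'.ZA_iff.1 (K'.invol_AQ_mem hxA hxQ hxx) with e | e | e | e
  · exact absurd (conj_eq_one_iff.1 e) fun e' => huA' (e' ▸ K'.A.one_mem)
  · refine absurd (K'.Z_le_ZA K'.z_mem_Z) fun hzA => huA' ?_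
    rw [← fix_z K' hz ⟨g', hg'C⟩] at e
    rw [mul_left_cancel (mul_right_cancel e)]
    exact (K'.ZA_facts hzA).1
  · exact Or.inl (by rw [← hxv, e, hpz.1])
  · exact Or.inr (by rw [← hxv, e, Subgroup.coe_mul, hpz.1, hpz.2])

end Ctx

end Cfsg.Agent.Lie.JankoSylow
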