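import Cfsg.Agent.Lib.Lie.JankoSylow.CentPair
import Cfsg.Agent.Lib.Lie.JankoSylow.Turn

/-!
With `z` central, trivial odd core and `u` fused to `p`, the core `Q` is normal.
-/

set_option autoImplicit false
set_option maxRecDepth 10000
set_option linter.style.haveILetI false
set_option linter.unusedSectionVars false

namespace Cfsg.Agent.Lie.JankoSylow

universe u

/-- non-central involutions of the core are conjugate in `S` to `u` or `p` up to the centre -/
theorem core_invol_conj : ∀ x < 32, sq x = 0 → inZ x = false →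
    ∃ s < 128, ∃ t < 128, mc s t = 0 ∧ mc (mc s x) t ∈ [1, 17, 15, 31] := by decide +kernel

set_option synthInstance.maxSize 2048 in
set_option synthInstance.maxHeartbeats 400000 in
/-- an element of the core with square `z` is a product of a unique pair of involution classes -/
theorem core_split : ∀ x < 32, sq x = cz → ∃ e < 32, sq e = 0 ∧ inZ e = false ∧ sq (mc x e) = 0 ∧
    ∀ e' < 32, sq e' = 0 → inZ e' = false → sq (mc x e') = 0 →
      e' ∈ [e, mc e cz, mc x e, mc (mc x e) cz] := by decide +kernel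

theorem core_square : ∀ x < 32, sq x = 0 ∨ sq x = cz := by decide +kernel

variable {H : Type u} [Group H] [Finite H] (K : Ctx H)

namespace Ctx

theorem mem_Q_code {x : H} (hx : x ∈ K.Q) : ∃ n < 32, K.g.φ n = x := by
  obtain ⟨n, -, hf, rfl⟩ := hx
  exact ⟨n, by simpa [inQ] using hf, rfl⟩

variable (hz : ∀ h : H, Commute K.g.z h)
include hz

theorem Z_normal : K.Z.Normal := ⟨fun x hx g => by
  rcases K.Z_iff.1 hx with rfl | rfl
  · simpa using K.Z.one_mem
  · rw [fix_z K hz g]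
    exact K.z_mem_Z⟩

theorem solvable_Pair_invol (hturn : ∃ g : H, g * K.uu * g⁻¹ = K.p ∨ g * K.uu * g⁻¹ = K.p * K.g.z)
    {x : H} (hx : x ∈ K.Q) (hxx : x * x = 1) (hxZ : x ∉ K.Z) : Group.IsSolvable ↥(K.Pair hz x) := by
  obtain ⟨g, hg, hgx⟩ : ∃ g : H, (g * x * g⁻¹ = K.p ∨ g * x * g⁻¹ = K.p * K.g.z) ∧ True := by
    obtain ⟨n, hn, rfl⟩ := mem_Q_code K hx
    have h128 : n < 128 := by omega
    rw [K.sq_eq h128] at hxx
    have hs : sq n = 0 := K.faith _ (mc_lt n h128 n h128) hxx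
    have hnz : inZ n = false := by
      rw [← Bool.not_eq_true]
      exact fun h => hxZ ((K.coded_iff h128).2 h)
    obtain ⟨s, hs', t, ht, hst, hm⟩ := core_invol_conj n hn hs hnz
    have hti : K.g.φ t = (K.g.φ s)⁻¹ :=
      eq_inv_of_mul_eq_one_right (by rw [K.g.φ_mul s hs' t ht, hst, K.g.φ_zero])
    have hval : K.g.φ s * K.g.φ n * (K.g.φ s)⁻¹ = K.g.φ (mc (mc s n) t) := by
      rw [← hti, K.g.φ_mul s hs' n h128, K.g.φ_mul _ (mc_lt s hs' n h128) t ht]
    obtain ⟨g0, hg0⟩ := hturn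
    have h16 : K.g.φ 16 = K.g.z := K.g.φ_gens.1
    have h17 : K.g.φ 17 = K.uu * K.g.z := by
      rw [← h16, uu, K.g.φ_mul 1 (by norm_num) 16 (by norm_num)]
      rfl
    have h31 : K.g.φ 31 = K.p * K.g.z := by
      rw [← h16, p, K.g.φ_mul cp (by decide) 16 (by norm_num)]
      rfl
    simp only [List.mem_cons, List.not_mem_nil, or_false] at hm
    rcases hm with e | e | e | e <;> rw [e] at hval
    · refine ⟨g0 * K.g.φ s, ?_, trivial⟩
      rw [show g0 * K.g.φ s * K.g.φ n * (g0 * K.g.φ s)⁻¹ = g0 * (K.g.φ s * K.g.φ n * (K.g.φ s)⁻¹) * g0⁻¹ by group,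
        hval]
      exact hg0
    · refine ⟨g0 * K.g.φ s, ?_, trivial⟩
      rw [show g0 * K.g.φ s * K.g.φ n * (g0 * K.g.φ s)⁻¹ = g0 * (K.g.φ s * K.g.φ n * (K.g.φ s)⁻¹) * g0⁻¹ by group,
        hval, h17, ← conj_mul, fix_z K hz g0]
      rcases hg0 with e' | e' <;> rw [e']
      · exact Or.inr rfl
      · exact Or.inl (by rw [mul_assoc, K.g.zz, mul_one])
    · exact ⟨K.g.φ s, Or.inl hval, trivial⟩
    · exact ⟨K.g.φ s, Or.inr (hval.trans h31), trivial⟩
  let f : ↥(K.Pair hz x) →* H := (MulAut.conj g).toMonoidHom.comp (Subgroup.subtype _)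
  have hf : ∀ h : ↥(K.Pair hz x), f h ∈ K.Pair hz K.p := by
    rintro ⟨h, hh⟩
    show g * h * g⁻¹ * K.p * (g * h * g⁻¹)⁻¹ = K.p ∨ g * h * g⁻¹ * K.p * (g * h * g⁻¹)⁻¹ = K.p * K.g.z
    have hp : K.p = g * x * g⁻¹ ∨ K.p = g * x * g⁻¹ * K.g.z := by
      rcases hg with e | e <;> rw [e]
      · exact Or.inl rfl
      · exact Or.inr (by rw [mul_assoc, K.g.zz, mul_one])
    have hsh : ∀ v, v * (g * x * g⁻¹ * K.g.z) * v⁻¹ = v * (g * x * g⁻¹) * v⁻¹ * K.g.z := fun v => by
      rw [← conj_mul, fix_z K hz v]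
    have hx' : g * h * g⁻¹ * (g * x * g⁻¹) * (g * h * g⁻¹)⁻¹ = g * x * g⁻¹ ∨
        g * h * g⁻¹ * (g * x * g⁻¹) * (g * h * g⁻¹)⁻¹ = g * x * g⁻¹ * K.g.z := by
      rw [show g * h * g⁻¹ * (g * x * g⁻¹) * (g * h * g⁻¹)⁻¹ = g * (h * x * h⁻¹) * g⁻¹ by group]
      rcases hh with e | e <;> rw [e]
      · exact Or.inl rfl
      · exact Or.inr (by rw [← conj_mul, fix_z K hz g])
    rcases hp with e | e <;> rw [e]
    · exact hx'
    · rw [hsh]
      rcases hx' with e' | e' <;> rw [e']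
      · exact Or.inl rfl
      · exact Or.inr rfl
  haveI := solvable_Pair_p K hz
  exact Group.isSolvable_of_isSolvable_injective (f := f.codRestrict _ hf)
    fun a b h => Subtype.ext (by simpa [f] using congrArg Subtype.val h)

theorem core_normal_of (hO : Cfsg.oddCore H = ⊥)
    (hturn : ∃ g : H, g * K.uu * g⁻¹ = K.p ∨ g * K.uu * g⁻¹ = K.p * K.g.z) : K.Q.Normal := by
  classical
  haveI : Fact (Nat.Prime 2) := ⟨Nat.prime_two⟩
  haveI hZn : K.Z.Normal := Z_normal K hz
  let π := QuotientGroup.mk' K.Z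
  have hπz : π K.g.z = 1 := (QuotientGroup.eq_one_iff _).2 K.z_mem_Z
  have hpi : ∀ {a b : H}, π a = π b → b = a ∨ b = a * K.g.z := by
    intro a b h
    rcases K.Z_iff.1 (QuotientGroup.eq.1 h) with e | e
    · exact Or.inl (inv_mul_eq_one.1 e).symm
    · exact Or.inr (inv_mul_eq_iff_eq_mul.1 e)
  have hsqe : ∀ {a b : H}, π a = π b → b * b = a * a := by
    intro a b h
    rcases hpi h with e | e <;> rw [e]
    rw [mul_assoc a, ← mul_assoc K.g.z, (hz a).eq, mul_assoc a, K.g.zz, mul_one]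
  set Qb := K.Q.map π with hQb
  have hQsq : ∀ a ∈ Qb, a * a = 1 := by
    rintro _ ⟨x, hx, rfl⟩
    rw [← map_mul]
    exact (QuotientGroup.eq_one_iff _).2 (K.Q_sq hx).1
  have hcomm : ∀ a ∈ Qb, ∀ b ∈ Qb, a * b = b * a := fun a ha b hb => StrongProd.commute_of_sq hQsq ha hb
  have hcl : Closed Qb := (closed_of_strongly (S := K.S)
    ⟨K.Q_le, fun a ha g hg => closed K hz ha hg⟩).map (K.S.2.to_le K.Q_le) _
  have hcard : Nat.card Qb = 16 := by
    have h1 := (π.comp K.Q.subtype).ker.card_mul_index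
    rw [Subgroup.index_ker, MonoidHom.range_comp, Subgroup.range_subtype] at h1
    have h2 : (π.comp K.Q.subtype).ker = K.Z.subgroupOf K.Q := by
      ext q
      exact QuotientGroup.eq_one_iff _
    rw [h2, Nat.card_congr (Subgroup.subgroupOfEquivOfLe K.Z_le_Q).toEquiv, K.card_facts.2.2.2.2.1,
      K.card_facts.1, ← hQb] at h1
    omega
  have hOR : Cfsg.oddCore (H ⧸ K.Z) = ⊥ := by
    haveI : (Cfsg.oddCore (H ⧸ K.Z)).Normal := StrongProd.oddCore_normal _
    obtain ⟨n, hn, hpow⟩ := StrongProd.exists_pow_odd K.Z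
    have h := StrongProd.le_of_central_odd (G := H) (L := (Cfsg.oddCore (H ⧸ K.Z)).comap π) (K := K.Z)
      hO hn (fun x hx => hpow x hx) fun k _ hk x _ => by
        rcases K.Z_iff.1 hk with rfl | rfl
        · rw [one_mul, mul_one]
        · exact (hz x).eq
    refine eq_bot_iff.2 fun x hx => ?_
    obtain ⟨x, rfl⟩ := QuotientGroup.mk'_surjective K.Z x
    exact Subgroup.mem_bot.2 ((QuotientGroup.eq_one_iff x).2 (h hx))
  -- the centralisers
  have hpairsol : ∀ x : H, Group.IsSolvable ↥(K.Pair hz x) →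
      Group.IsSolvable ↥(Subgroup.centralizer ({π x} : Set (H ⧸ K.Z))) := by
    intro x hs
    haveI := hs
    have hf : ∀ h : ↥(K.Pair hz x), π (h : H) ∈ Subgroup.centralizer ({π x} : Set (H ⧸ K.Z)) := by
      rintro ⟨h, hh⟩
      refine Subgroup.mem_centralizer_singleton_iff.2 (mul_inv_eq_iff_eq_mul.1 ?_)
      rw [← map_inv, ← map_mul, ← map_mul]
      rcases hh with e | e <;> rw [e]
      rw [map_mul, hπz, mul_one]
    refine Group.isSolvable_of_surjective (f := (π.comp (Subgroup.subtype _)).codRestrict _ hf) fun y => ?_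
    obtain ⟨h, hh⟩ := QuotientGroup.mk'_surjective K.Z (y : H ⧸ K.Z)
    have h1 : π x = π (h * x * h⁻¹) := by
      rw [map_mul, map_mul, map_inv, hh, Subgroup.mem_centralizer_singleton_iff.1 y.2, mul_inv_cancel_right]
    exact ⟨⟨h, hpi h1⟩, Subtype.ext hh⟩
  have hsing : ∀ x ∈ K.Q, x * x = 1 → π x ≠ 1 →
      Group.IsSolvable ↥(Subgroup.centralizer ({π x} : Set (H ⧸ K.Z))) := fun x hx hxx hne =>
    hpairsol x (solvable_Pair_invol K hz hturn hx hxx fun h => hne ((QuotientGroup.eq_one_iff _).2 h))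
  have hsol : ∀ a ∈ Qb, a ≠ 1 → Group.IsSolvable ↥(Subgroup.centralizer ({a} : Set (H ⧸ K.Z))) := by
    rintro _ ⟨x, hx, rfl⟩ hne
    obtain ⟨n, hn, rfl⟩ := mem_Q_code K hx
    have h128 : n < 128 := by omega
    rcases core_square n hn with e | e
    · exact hsing _ hx (by rw [K.sq_eq h128, e, K.g.φ_zero]) hne
    · obtain ⟨m, hm, hm0, hmZ, hxm, huniq⟩ := core_split n hn e
      have hm128 : m < 128 := by omega
      have hmQ : K.g.φ m ∈ K.Q := (K.coded_iff (f := inQ) hm128).2 (by simpa [inQ] using hm)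
      have hmm : K.g.φ m * K.g.φ m = 1 := by rw [K.sq_eq hm128, hm0, K.g.φ_zero]
      have hm1 : π (K.g.φ m) ≠ 1 := fun h => by
        have := (K.coded_iff (f := inZ) hm128).1 ((QuotientGroup.eq_one_iff _).1 h)
        rw [hmZ] at this
        exact Bool.noConfusion this
      have hmw : π (K.g.φ m) ≠ π (K.g.φ n) := fun h => by
        have := hsqe h
        rw [hmm, K.sq_eq h128, e] at this
        exact absurd (K.faith cz (by decide) this) (by decide)
      refine solvable_cent_of_pair hQsq hcl (e := π (K.g.φ m)) ⟨_, hx, rfl⟩ ⟨_, hmQ, rfl⟩ hm1 hmw ?_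
        (hsing _ hmQ hmm hm1)
      intro g hgw hge
      obtain ⟨g, rfl⟩ := QuotientGroup.mk'_surjective K.Z g
      obtain ⟨y, hy, hye⟩ := hge
      rw [← map_inv, ← map_mul, ← map_mul] at hgw hye
      have hyy : y * y = 1 := by
        rw [← hsqe hye, conj_mul, hmm]
        group
      have hxy : (K.g.φ n * y) * (K.g.φ n * y) = 1 := by
        have h1 : π (g * (K.g.φ n * K.g.φ m) * g⁻¹) = π (K.g.φ n * y) := by
          rw [← conj_mul, map_mul π (g * K.g.φ n * g⁻¹), hgw, ← hye, map_mul]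
        have h2 : K.g.φ n * K.g.φ m * (K.g.φ n * K.g.φ m) = 1 := by
          rw [K.g.φ_mul n h128 m hm128, K.sq_eq (mc_lt n h128 m hm128), hxm, K.g.φ_zero]
        rw [hsqe h1, conj_mul, h2]
        group
      obtain ⟨k, hk, rfl⟩ := mem_Q_code K hy
      have hk128 : k < 128 := by omega
      rw [K.sq_eq hk128] at hyy
      rw [K.g.φ_mul n h128 k hk128, K.sq_eq (mc_lt n h128 k hk128)] at hxy
      have hkZ : inZ k = false := by
        rw [← Bool.not_eq_true]
        intro h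
        refine hm1 ?_
        have h1 : π (K.g.φ k) = 1 := (QuotientGroup.eq_one_iff _).2 ((K.coded_iff hk128).2 h)
        rw [h1, map_mul, map_mul, map_inv] at hye
        exact conj_eq_one_iff.1 hye.symm
      have hmem := huniq k hk (K.faith _ (mc_lt k hk128 k hk128) hyy) hkZ
        (K.faith _ (mc_lt _ (mc_lt n h128 k hk128) _ (mc_lt n h128 k hk128)) hxy)
      rw [← map_inv, ← map_mul, ← map_mul, ← hye]
      have hcz : π (K.g.φ cz) = 1 := by rw [show K.g.φ cz = K.g.z from K.g.φ_gens.1, hπz]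
      have hcz' : cz < 128 := by decide
      simp only [List.mem_cons, List.not_mem_nil, or_false] at hmem
      rcases hmem with rfl | rfl | rfl | rfl
      · exact Or.inl rfl
      · exact Or.inl (by rw [← K.g.φ_mul m hm128 cz hcz', map_mul, hcz, mul_one])
      · refine Or.inr ?_
        rw [← K.g.φ_mul n h128 m hm128, map_mul]
        exact hcomm _ ⟨_, hx, rfl⟩ _ ⟨_, hmQ, rfl⟩
      · refine Or.inr ?_
        rw [← K.g.φ_mul _ (mc_lt n h128 m hm128) cz hcz', map_mul, hcz, mul_one, ← K.g.φ_mul n h128 m hm128,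
          map_mul]
        exact hcomm _ ⟨_, hx, rfl⟩ _ ⟨_, hmQ, rfl⟩
  -- two classes
  have htwo : ∃ u ∈ Qb, ∃ v ∈ Qb, u ≠ 1 ∧ v ≠ 1 ∧ ¬ IsConj u v := by
    have h3Q : K.g.φ 3 ∈ K.Q := ⟨3, by norm_num, rfl, rfl⟩
    have h3 : K.g.φ 3 * K.g.φ 3 = K.g.z := by rw [K.sq_eq (by norm_num), ← K.g.φ_gens.1]; rfl
    obtain ⟨huQ, huA, huu, -⟩ := K.uu_facts
    refine ⟨π K.uu, ⟨_, huQ, rfl⟩, π (K.g.φ 3), ⟨_, h3Q, rfl⟩, fun h => ?_, fun h => ?_, fun h => ?_⟩
    · exact huA (K.ZA_facts (K.Z_le_ZA ((QuotientGroup.eq_one_iff _).1 h))).1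
    · have := hsqe (b := (1 : H)) (h.trans (map_one π).symm)
      rw [h3, one_mul] at this
      exact K.z_ne this.symm
    · obtain ⟨g, hg⟩ := isConj_iff.1 h
      obtain ⟨g, rfl⟩ := QuotientGroup.mk'_surjective K.Z g
      rw [← map_inv, ← map_mul, ← map_mul] at hg
      have := hsqe hg
      rw [h3, conj_mul, huu] at this
      exact K.z_ne (by rw [this]; group)
  haveI hn : Qb.Normal := closed_normal hOR ⟨StrongProd.comm_of_sq hQsq, fun a ha => (pow_two a).trans (hQsq a ha)⟩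
    (by rw [hcard]; norm_num) hcl hsol htwo
  have hpre : Qb.comap π = K.Q := by
    rw [hQb, Subgroup.comap_map_eq, QuotientGroup.ker_mk', sup_eq_left]
    exact K.Z_le_Q
  exact hpre ▸ inferInstance

end Ctx

end Cfsg.Agent.Lie.JankoSylow
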