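import Cfsg.Agent.Lib.Lie.JankoSylow.CoreNormal
import Cfsg.Agent.Lib.Spor.JThree.Split
import Cfsg.Agent.Lib.Spor.JThree.Exclude

/-!
With the core normal, the quotient by it is `A₅` and the group has the standard coordinates of `2^{1+4}:A₅`.
-/

set_option autoImplicit false
set_option maxRecDepth 10000
set_option linter.style.haveILetI false
set_option linter.unusedSectionVars false

namespace Cfsg.Agent.Lie.JankoSylow

open Equiv
open Cfsg.Agent.Fusion (SylIn)

universe u

/-- representatives of the five classes -/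
def cU : Fin 5 → ℕ := ![1, 2, 4, 8, 15]

theorem cU_facts : ∀ i, cU i < 32 ∧ sq (cU i) = 0 ∧ inZ (cU i) = false := by decide +kernel

theorem cU_all : ∀ x < 32, sq x = 0 → inZ x = false → ∃ i, x = cU i ∨ x = mc (cU i) cz := by decide +kernel

theorem cU_inj : ∀ i j, cU i = cU j ∨ cU i = mc (cU j) cz → i = j := by decide +kernel

theorem core_center : ∀ x < 128, (∀ y < 128, inQ y = true → comB x y = true) → inZ x = true := by decide +kernel

theorem core_mod_center : ∀ x < 128, (∀ y < 128, inQ y = true → comZ x y = true) → inQ x = true := by decide +kernel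

/-- the permutation of the classes by `a` -/
def permA : Perm (Fin 5) := Equiv.swap 0 1 * Equiv.swap 2 3

/-- the permutation of the classes by `b` -/
def permB : Perm (Fin 5) := Equiv.swap 0 2 * Equiv.swap 1 3

theorem perm_ab : ∀ i, (mc (mc 32 (cU i)) 32 = cU (permA i) ∨ mc (mc 32 (cU i)) 32 = mc (cU (permA i)) cz) ∧
    (mc (mc 64 (cU i)) 64 = cU (permB i) ∨ mc (mc 64 (cU i)) 64 = mc (cU (permB i)) cz) := by decide +kernel

theorem code_top : ∀ n < 128, ∃ q < 32, n = q ∨ n = mc q 32 ∨ n = mc q 64 ∨ n = mc q (mc 32 64) := by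
  decide +kernel

variable {H : Type u} [Group H] [Finite H] (K : Ctx H)

namespace Ctx

variable (hz : ∀ h : H, Commute K.g.z h)
include hz

theorem core_cent (hO : Cfsg.oddCore H = ⊥) (hQn : K.Q.Normal) :
    Subgroup.centralizer (K.Q : Set H) ≤ K.Q := by
  classical
  haveI : Fact (Nat.Prime 2) := ⟨Nat.prime_two⟩
  haveI := hQn
  set C := Subgroup.centralizer (K.Q : Set H)
  haveI : C.Normal := Subgroup.normal_centralizer
  have hSC : (K.S : Subgroup H) ⊓ C = K.Z := by
    refine le_antisymm ?_ fun x hx => ⟨K.Q_le (K.Z_le_Q hx), Subgroup.mem_centralizer_iff.2 fun q _ => ?_⟩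
    · rintro x ⟨hxS, hxC⟩
      obtain ⟨n, hn, rfl⟩ := K.exists_code hxS
      exact (K.coded_iff hn).2 (core_center n hn fun m hm hmQ => (K.comB_iff hn hm).2
        (Subgroup.mem_centralizer_iff.1 hxC _ ((K.coded_iff hm).2 hmQ)).symm)
    · rcases K.Z_iff.1 hx with rfl | rfl
      · rw [one_mul, mul_one]
      · exact (hz q).eq.symm
  have hT : SylIn 2 K.Z C := by
    have h1 := (Fusion.sylIn_top K.S).inf_normal (N := C) le_top (by rw [Subgroup.normalizer_eq_top])
    rwa [hSC] at h1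
  obtain ⟨P, hP⟩ := hT.exists_sylow_subgroupOf
  have hburn : Subgroup.normalizer ((P : Subgroup ↥C) : Set ↥C) ≤
      Subgroup.centralizer ((P : Subgroup ↥C) : Set ↥C) := by
    intro v _
    rw [Subgroup.mem_centralizer_iff]
    intro w hw
    rw [hP] at hw
    refine Subtype.ext ?_
    show (w : H) * v = v * w
    rcases K.Z_iff.1 (show (w : H) ∈ K.Z from hw) with e | e <;> rw [e]
    · rw [one_mul, mul_one]
    · exact (hz v).eq
  let T := MonoidHom.transferSylow P hburn
  have hbot : T.ker = ⊥ := by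
    rw [eq_bot_iff, ← Char.oddCore_normal_eq_bot hO C]
    exact Fusion.le_pPrimeCore
      ((Nat.Prime.coprime_iff_not_dvd Nat.prime_two).2 (MonoidHom.not_dvd_card_ker_transferSylow P hburn)).symm
  have htop : (P : Subgroup ↥C) = ⊤ := by
    have := MonoidHom.ker_transferSylow_isComplement' P hburn
    change Subgroup.IsComplement' T.ker _ at this
    rwa [hbot, Subgroup.isComplement'_bot_left] at this
  intro x hx
  have : (⟨x, hx⟩ : ↥C) ∈ (P : Subgroup ↥C) := htop ▸ Subgroup.mem_top _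
  rw [hP] at this
  exact K.Z_le_Q this

theorem core_setting (hO : Cfsg.oddCore H = ⊥) (hQn : K.Q.Normal) : CentTransfer.Setting K.g.z K.Q where
  xt :=
    { ne := K.z_ne
      sq := K.g.zz
      mem := K.Z_le_Q K.z_mem_Z
      cen := fun a _ => hz a
      comm := fun _ ha _ hb => (mem_Pair K hz).1 (Q_le_Pair K hz hb ha)
      eq_of_cen := fun a ha h => by
        obtain ⟨n, hn, -, rfl⟩ := ha
        exact K.Z_iff.1 ((K.coded_iff hn).2 (core_center n hn fun m hm hmQ =>
          (K.comB_iff hn hm).2 (h _ ((K.coded_iff hm).2 hmQ)))) }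
  sq a ha := K.Z_iff.1 (K.Q_sq ha).1
  cent := core_cent K hz hO hQn
  norm h _ a ha := hQn.conj_mem a ha h
  two := K.S.2.to_le K.Q_le

theorem core_quot (hO : Cfsg.oddCore H = ⊥) (hQn : K.Q.Normal)
    (hturn : ∃ g : H, g * K.uu * g⁻¹ = K.p ∨ g * K.uu * g⁻¹ = K.p * K.g.z) :
    ∃ f : H →* alternatingGroup (Fin 5), Function.Surjective f ∧ f.ker = K.Q := by
  classical
  haveI : Fact (Nat.Prime 2) := ⟨Nat.prime_two⟩
  let U : Fin 5 → H := fun i => K.g.φ (cU i)
  have hlt : ∀ i, cU i < 128 := fun i => by have := (cU_facts i).1; omega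
  have hUQ : ∀ i, U i ∈ K.Q := fun i => (K.coded_iff (hlt i)).2 (by simpa [inQ] using (cU_facts i).1)
  have hcz : cz < 128 := by decide
  have hUz : ∀ i, U i * K.g.z = K.g.φ (mc (cU i) cz) := fun i => by
    rw [← K.g.φ_gens.1]
    exact K.g.φ_mul _ (hlt i) cz hcz
  have hinj : ∀ i j, (U i = U j ∨ U i = U j * K.g.z) → i = j := by
    intro i j h
    rw [hUz] at h
    exact cU_inj i j (h.imp (K.faith.eq (hlt i) (hlt j)) (K.faith.eq (hlt i) (mc_lt _ (hlt j) cz hcz)))
  have hex : ∀ (h : H) (i : Fin 5), ∃ j, h * U i * h⁻¹ = U j ∨ h * U i * h⁻¹ = U j * K.g.z := by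
    intro h i
    obtain ⟨n, hn, hne⟩ := mem_Q_code K (hQn.conj_mem _ (hUQ i) h)
    have hn' : n < 128 := by omega
    have h1 : sq n = 0 := by
      refine K.faith _ (mc_lt n hn' n hn') ?_
      rw [← K.sq_eq hn', hne, conj_mul, show U i * U i = 1 by
        show K.g.φ (cU i) * K.g.φ (cU i) = 1
        rw [K.sq_eq (hlt i), (cU_facts i).2.1, K.g.φ_zero]]
      group
    have h2 : inZ n = false := by
      rw [← Bool.not_eq_true]
      intro hZ
      have h3 : U i ∈ K.Z := by
        have h4 : h * U i * h⁻¹ ∈ K.Z := hne ▸ (K.coded_iff hn').2 hZ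
        have h5 := (Z_normal K hz).conj_mem _ h4 h⁻¹
        simpa [mul_assoc] using h5
      have h6 := (K.coded_iff (f := inZ) (hlt i)).1 h3
      rw [(cU_facts i).2.2] at h6
      exact Bool.noConfusion h6
    obtain ⟨j, hj⟩ := cU_all n hn h1 h2
    refine ⟨j, ?_⟩
    rw [← hne, hUz]
    exact hj.imp (congrArg K.g.φ) (congrArg K.g.φ)
  choose σ hσ using hex
  have huniq : ∀ h i j, (h * U i * h⁻¹ = U j ∨ h * U i * h⁻¹ = U j * K.g.z) → σ h i = j := by
    intro h i j hj
    refine hinj _ _ ?_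
    rcases hσ h i with e | e <;> rcases hj with e' | e' <;> rw [e] at e'
    · exact Or.inl e'
    · exact Or.inr e'
    · exact Or.inr (by rw [← e', mul_assoc, K.g.zz, mul_one])
    · exact Or.inl (mul_right_cancel e')
  have hsh : ∀ (h : H) (w : H), h * (w * K.g.z) * h⁻¹ = h * w * h⁻¹ * K.g.z := fun h w => by
    rw [← conj_mul, fix_z K hz h]
  have hmul : ∀ g h i, σ (g * h) i = σ g (σ h i) := by
    intro g h i
    refine huniq _ _ _ ?_
    rw [show g * h * U i * (g * h)⁻¹ = g * (h * U i * h⁻¹) * g⁻¹ by group]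
    rcases hσ h i with e | e <;> rw [e]
    · exact hσ g _
    · rw [hsh]
      rcases hσ g (σ h i) with e' | e' <;> rw [e']
      · exact Or.inr rfl
      · exact Or.inl (by rw [mul_assoc, K.g.zz, mul_one])
  have hone : ∀ i, σ 1 i = i := fun i => huniq _ _ _ (Or.inl (by group))
  let f : H →* Perm (Fin 5) :=
    { toFun := fun h => ⟨σ h, σ h⁻¹, fun i => by rw [← hmul, inv_mul_cancel, hone],
        fun i => by rw [← hmul, mul_inv_cancel, hone]⟩
      map_one' := Equiv.ext hone
      map_mul' := fun g h => Equiv.ext (hmul g h) }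
  have hf : ∀ h i, f h i = σ h i := fun _ _ => rfl
  -- the kernel
  have hfQ : ∀ q ∈ K.Q, f q = 1 := fun q hq => Equiv.ext fun i =>
    huniq q i i ((mem_Pair K hz).1 (Q_le_Pair K hz (hUQ i) hq))
  have hkerQ : ∀ k, f k = 1 → k ∈ K.Q := by
    intro k hk
    have hmodZ : ∀ w, f w = 1 → ∀ q ∈ K.Q, w * q * w⁻¹ = q ∨ w * q * w⁻¹ = q * K.g.z := by
      intro w hw
      let N : Subgroup H :=
        { carrier := {q | w * q * w⁻¹ = q ∨ w * q * w⁻¹ = q * K.g.z}
          one_mem' := Or.inl (by group)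
          mul_mem' := by
            intro a b ha hb
            show w * (a * b) * w⁻¹ = a * b ∨ w * (a * b) * w⁻¹ = a * b * K.g.z
            rw [← conj_mul]
            rcases ha with e | e <;> rcases hb with e' | e' <;> rw [e, e']
            · exact Or.inl rfl
            · exact Or.inr (mul_assoc _ _ _).symm
            · exact Or.inr (by rw [mul_assoc a, (hz b).eq, ← mul_assoc])
            · refine Or.inl ?_
              rw [mul_assoc a, ← mul_assoc K.g.z, (hz b).eq, mul_assoc b, K.g.zz, mul_one]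
          inv_mem' := by
            intro a ha
            show w * a⁻¹ * w⁻¹ = a⁻¹ ∨ w * a⁻¹ * w⁻¹ = a⁻¹ * K.g.z
            rw [← conj_inv]
            rcases ha with e | e <;> rw [e]
            · exact Or.inl rfl
            · exact Or.inr (by rw [mul_inv_rev, inv_eq_of_mul_eq_one_right K.g.zz, (hz a⁻¹).eq]) }
      have hU : ∀ i, U i ∈ N := fun i => by
        have h1 := hσ w i
        have h2 : σ w i = i := by rw [← hf, hw]; rfl
        rwa [h2] at h1
      have hu : ∀ j : Fin 4, K.g.u j ∈ N := by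
        intro j
        obtain ⟨-, -, -, e1, e2, e4, e8⟩ := K.g.φ_gens
        fin_cases j
        · exact e1 ▸ hU 0
        · exact e2 ▸ hU 1
        · exact e4 ▸ hU 2
        · exact e8 ▸ hU 3
      have hzN : K.g.z ∈ N := Or.inl (fix_z K hz w)
      have hpw : ∀ {v : H}, v ∈ N → ∀ k, pw v k ∈ N := fun {v} hv k => by
        unfold pw; split <;> [exact hv; exact N.one_mem]
      intro q hq
      obtain ⟨n, hn, rfl⟩ := mem_Q_code K hq
      refine N.mul_mem (N.mul_mem (hpw (hu 0) _) (N.mul_mem (hpw (hu 1) _) (N.mul_mem (hpw (hu 2) _) (hpw (hu 3) _))))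
        (N.mul_mem (hpw hzN _) ?_)
      rw [show n / 32 = 0 by omega]
      simp [Gens.V, pw, N.one_mem]
    obtain ⟨y, d, hyd, hy2, hdo, hym, hdm⟩ := exists_parts k
    have hsub : ∀ v ∈ Subgroup.zpowers k, f v = 1 := fun v hv => Subgroup.zpowers_le.2 (show k ∈ f.ker from hk) hv
    have hd1 : d ∈ K.Q := by
      refine core_cent K hz hO hQn (Subgroup.mem_centralizer_iff.2 fun q hq => ?_)
      rcases hmodZ d (hsub d hdm) q hq with e | e
      · exact (mul_inv_eq_iff_eq_mul.1 e).symm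
      · exact absurd (odd_fix hdo (fix_z K hz d) K.g.zz e) K.z_ne
    obtain ⟨x, -, hx⟩ := (Fusion.sylIn_top K.S).conj_le hy2 le_top
    have hyS : x * y * x⁻¹ ∈ (K.S : Subgroup H) := hx ⟨y, Subgroup.mem_zpowers y, rfl⟩
    have hyf : f (x * y * x⁻¹) = 1 := by rw [map_mul, map_mul, hsub y hym, mul_one, ← map_mul, mul_inv_cancel, map_one]
    obtain ⟨n, hn, hne⟩ := K.exists_code hyS
    have hyQ : x * y * x⁻¹ ∈ K.Q := by
      rw [← hne]
      refine (K.coded_iff hn).2 (core_mod_center n hn fun m hm hmQ => (K.comZ_iff hn hm).2 ?_)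
      rw [hne]
      rcases hmodZ _ hyf _ ((K.coded_iff hm).2 hmQ) with e | e
      · exact Or.inl (mul_inv_eq_iff_eq_mul.1 e)
      · refine Or.inr ?_
        rw [mul_inv_eq_iff_eq_mul.1 e, ← (hz (K.g.φ m)).eq, mul_assoc]
    have := hQn.conj_mem _ hyQ x⁻¹
    rw [show x⁻¹ * (x * y * x⁻¹) * x⁻¹⁻¹ = y by group] at this
    rw [hyd]
    exact K.Q.mul_mem this hd1
  -- the images of `a` and `b`
  have hsq32 : mc 32 32 = 0 ∧ mc 64 64 = 0 := by decide
  have hfa : f (K.g.φ 32) = permA := Equiv.ext fun i => huniq _ _ _ (by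
    rw [inv_eq_of_mul_eq_one_right (show K.g.φ 32 * K.g.φ 32 = 1 by
      rw [K.g.φ_mul 32 (by norm_num) 32 (by norm_num), hsq32.1, K.g.φ_zero]), hUz,
      show K.g.φ 32 * U i * K.g.φ 32 = K.g.φ (mc (mc 32 (cU i)) 32) by
        rw [K.g.φ_mul 32 (by norm_num) _ (hlt i), K.g.φ_mul _ (mc_lt 32 (by norm_num) _ (hlt i)) 32 (by norm_num)]]
    exact (perm_ab i).1.imp (congrArg K.g.φ) (congrArg K.g.φ))
  have hfb : f (K.g.φ 64) = permB := Equiv.ext fun i => huniq _ _ _ (by
    rw [inv_eq_of_mul_eq_one_right (show K.g.φ 64 * K.g.φ 64 = 1 by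
      rw [K.g.φ_mul 64 (by norm_num) 64 (by norm_num), hsq32.2, K.g.φ_zero]), hUz,
      show K.g.φ 64 * U i * K.g.φ 64 = K.g.φ (mc (mc 64 (cU i)) 64) by
        rw [K.g.φ_mul 64 (by norm_num) _ (hlt i), K.g.φ_mul _ (mc_lt 64 (by norm_num) _ (hlt i)) 64 (by norm_num)]]
    exact (perm_ab i).2.imp (congrArg K.g.φ) (congrArg K.g.φ))
  -- all images are even
  let s : H →* ℤˣ := Perm.sign.comp f
  have hsS : ∀ x ∈ (K.S : Subgroup H), s x = 1 := by
    intro x hx
    obtain ⟨n, hn, rfl⟩ := K.exists_code hx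
    obtain ⟨q, hq, hcase⟩ := code_top n hn
    have hq1 : s (K.g.φ q) = 1 := by
      show Perm.sign (f (K.g.φ q)) = 1
      rw [hfQ _ ((K.coded_iff (by omega)).2 (by simpa [inQ] using hq)), map_one]
    have ha : s (K.g.φ 32) = 1 := by show Perm.sign (f (K.g.φ 32)) = 1; rw [hfa]; decide
    have hb : s (K.g.φ 64) = 1 := by show Perm.sign (f (K.g.φ 64)) = 1; rw [hfb]; decide
    rcases hcase with rfl | rfl | rfl | rfl
    · exact hq1
    · rw [← K.g.φ_mul q (by omega) 32 (by norm_num), map_mul, hq1, ha, one_mul]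
    · rw [← K.g.φ_mul q (by omega) 64 (by norm_num), map_mul, hq1, hb, one_mul]
    · rw [← K.g.φ_mul q (by omega) _ (mc_lt 32 (by norm_num) 64 (by norm_num)),
        ← K.g.φ_mul 32 (by norm_num) 64 (by norm_num), map_mul, map_mul, hq1, ha, hb, one_mul, one_mul]
  have heven : ∀ h, s h = 1 := by
    intro h
    obtain ⟨y, d, rfl, hy2, hdo, -, -⟩ := exists_parts h
    obtain ⟨x, -, hx⟩ := (Fusion.sylIn_top K.S).conj_le hy2 le_top
    have h1 : s (x * y * x⁻¹) = 1 := hsS _ (hx ⟨y, Subgroup.mem_zpowers y, rfl⟩)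
    rw [map_mul, map_mul, mul_comm (s x), mul_assoc, ← map_mul, mul_inv_cancel, map_one, mul_one] at h1
    obtain ⟨j, hj⟩ := hdo
    have h2 : s d ^ (2 * j + 1) = 1 := by rw [← map_pow, ← hj, pow_orderOf_eq_one, map_one]
    rw [pow_succ, pow_mul, Int.units_sq, one_pow, one_mul] at h2
    rw [map_mul, h1, h2, one_mul]
  let f' : H →* alternatingGroup (Fin 5) := f.codRestrict _ fun h => heven h
  have hker : f'.ker = K.Q := by
    ext k
    refine ⟨fun hk => hkerQ k (congrArg Subtype.val hk), fun hk => Subtype.ext (hfQ k hk)⟩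
  refine ⟨f', ?_, hker⟩
  -- surjectivity
  have h4 : 4 ∣ K.Q.index := by
    have h1 : Nat.card (K.S : Subgroup H) ∣ Nat.card H := Subgroup.card_subgroup_dvd_card _
    rw [← K.Q.card_mul_index, K.card_facts.1, K.card_S] at h1
    omega
  have h5 : 5 ∣ K.Q.index := by
    letI : MulAction H (Fin 5) := MulAction.compHom (Fin 5) f
    have hsmul : ∀ (h : H) (i : Fin 5), h • i = f h i := fun _ _ => rfl
    obtain ⟨g, hg⟩ := hturn
    have hg4 : f g 0 = 4 := huniq g 0 4 hg
    have hto : ∀ i : Fin 5, ∃ h : H, h • (0 : Fin 5) = i := by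
      intro i
      fin_cases i
      · exact ⟨1, by simp⟩
      · exact ⟨K.g.φ 32, by rw [hsmul, hfa]; decide⟩
      · exact ⟨K.g.φ 64, by rw [hsmul, hfb]; decide⟩
      · exact ⟨K.g.φ 32 * K.g.φ 64, by rw [hsmul, map_mul, hfa, hfb]; decide⟩
      · exact ⟨g, hg4⟩
    haveI : MulAction.IsPretransitive H (Fin 5) := ⟨fun i j => by
      obtain ⟨a, ha⟩ := hto i
      obtain ⟨b, hb⟩ := hto j
      exact ⟨b * a⁻¹, by rw [mul_smul, ← ha, inv_smul_smul, hb]⟩⟩
    have h1 : (MulAction.stabilizer H (0 : Fin 5)).index = 5 := by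
      rw [MulAction.index_stabilizer_of_transitive, Nat.card_fin]
    rw [← h1]
    exact Subgroup.index_dvd_of_le fun q hq => by
      rw [MulAction.mem_stabilizer_iff, hsmul, hfQ q hq]; rfl
  have h60 : Nat.card (alternatingGroup (Fin 5)) = 60 := by
    rw [nat_card_alternatingGroup, Nat.card_fin]; rfl
  have hWd : Nat.card f'.range ∣ 60 := h60 ▸ Subgroup.card_subgroup_dvd_card _
  have hW : Nat.card f'.range = K.Q.index := by rw [← Subgroup.index_ker, hker]
  have h20 : 20 ∣ Nat.card f'.range := by rw [hW]; exact Nat.Coprime.mul_dvd_of_dvd_of_dvd (by norm_num : Nat.Coprime 4 5) h4 h5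
  rw [← MonoidHom.range_eq_top]
  by_contra hne
  have h20' : Nat.card f'.range = 20 := by
    have hle := Nat.le_of_dvd (by norm_num) hWd
    have hne60 : Nat.card f'.range ≠ 60 := fun e => hne (Subgroup.eq_top_of_card_eq _ (e.trans h60.symm))
    obtain ⟨k, hk⟩ := h20
    rw [hk] at hle hne60 hWd ⊢
    have hk3 : k ≤ 3 := by omega
    interval_cases k <;> revert hWd hne60 <;> norm_num
  haveI : IsSimpleGroup (alternatingGroup (Fin 5)) := alternatingGroup.isSimpleGroup (by simp)
  have hidx : f'.range.index = 3 := by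
    have := f'.range.card_mul_index
    rw [h20', h60] at this
    omega
  rcases (Subgroup.normalCore_normal f'.range).eq_bot_or_eq_top with e | e
  · rw [Subgroup.normalCore_eq_ker, MonoidHom.ker_eq_bot_iff] at e
    have := Nat.card_le_card_of_injective _ e
    rw [h60, Nat.card_perm, ← Subgroup.index_eq_card, hidx] at this
    norm_num [Nat.factorial] at this
  · exact hne (eq_top_iff.2 (e ▸ f'.range.normalCore_le))

/-- the coordinates of `2^{1+4}:A₅` -/
theorem coord_exists (hO : Cfsg.oddCore H = ⊥)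
    (hturn : ∃ g : H, g * K.uu * g⁻¹ = K.p ∨ g * K.uu * g⁻¹ = K.p * K.g.z) :
    Nonempty (Spor.JThree.Coord K.g.z) := by
  have hQn := core_normal_of K hz hO hturn
  obtain ⟨f, hf, hker⟩ := core_quot K hz hO hQn hturn
  have hC : ∀ h : H, h ∈ Subgroup.centralizer ({K.g.z} : Set H) := fun h =>
    Subgroup.mem_centralizer_singleton_iff.2 (hz h).symm.eq
  obtain ⟨huQ, huA, huu, -⟩ := K.uu_facts
  obtain ⟨F⟩ := HJType.exists_frame_of (core_setting K hz hO hQn) K.card_facts.1
    ⟨f.comp (Subgroup.subtype _), fun y => by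
      obtain ⟨x, rfl⟩ := hf y
      exact ⟨⟨x, hC x⟩, rfl⟩, by rw [← MonoidHom.comap_ker, hker]; rfl⟩
    ⟨K.uu, huQ, huu, fun e => huA (e ▸ K.A.one_mem), fun e =>
      huA (e ▸ (K.ZA_facts (K.Z_le_ZA K.z_mem_Z)).1)⟩
  refine Spor.JThree.exists_coord F ⟨K.g.φ 32, (hz _).symm, ?_, fun h => ?_⟩ (Spor.JThree.card_centralizer F)
  · rw [K.g.φ_mul 32 (by norm_num) 32 (by norm_num), show mc 32 32 = 0 by decide, K.g.φ_zero]
  · have := (K.coded_iff (f := inQ) (by norm_num : 32 < 128)).1 h
    exact absurd this (by decide)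

end Ctx

open Spor.JThree in
/-- two groups with coordinates have isomorphic centralisers -/
theorem coord_iso {G : Type*} [Group G] {M : Type*} [Group M] {t : G} {s : M} (c : Coord t) (d : Coord s) :
    Nonempty (↥(Subgroup.centralizer ({t} : Set G)) ≃* ↥(Subgroup.centralizer ({s} : Set M))) := by
  choose n hn hne using c.surj
  refine ⟨MulEquiv.ofBijective
    ({ toFun := fun x => d.dec (n x)
       map_one' := by
        rw [show n 1 = 0 from c.inj _ (hn 1) 0 (by norm_num) ((hne 1).trans c.zero.symm)]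
        exact d.zero
       map_mul' := fun x y => by
        rw [← d.mul _ (hn x) _ (hn y)]
        refine congrArg d.dec (c.inj _ (hn _) _ (c.lt _ (hn x) _ (hn y)) ?_)
        rw [hne, c.mul _ (hn x) _ (hn y), hne, hne] } : _ →* _) ⟨fun x y h => ?_, fun y => ?_⟩⟩
  · have h1 := congrArg c.dec (d.inj _ (hn x) _ (hn y) h)
    rwa [hne, hne] at h1
  · obtain ⟨m, hm, rfl⟩ := d.surj y
    exact ⟨c.dec m, congrArg d.dec (c.inj _ (hn _) m hm (hne _))⟩

end Cfsg.Agent.Lie.JankoSylow
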