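import Cfsg.Agent.Lib.Lie.JankoSylow.Gens
import Cfsg.Agent.Lib.Lie.J2Unique.Model
import Cfsg.Agent.Lib.Lie.HJType.Second
import Cfsg.Agent.S1619

/-!
The Sylow 2-subgroups of the Hall–Janko group have seven generators with the standard relations.
-/

set_option autoImplicit false
set_option maxRecDepth 10000
set_option linter.style.haveILetI false

namespace Cfsg.Agent.Lie.JankoSylow

open Equiv HJType

universe u

local notation "A5" => alternatingGroup (Fin 5)

variable {G : Type u} [Group G]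

/-- only the zero code gives the identity -/
def Gens.Faith (g : Gens G) : Prop := ∀ n < 128, g.φ n = 1 → n = 0

theorem Gens.Faith.eq {g : Gens G} (hg : g.Faith) {n m : ℕ} (hn : n < 128) (hm : m < 128)
    (h : g.φ n = g.φ m) : n = m := by
  obtain ⟨k, hk, e⟩ := exists_inv m hm
  have h1 : g.φ (mc n k) = 1 := by
    rw [← g.φ_mul n hn k hk, h, g.φ_mul m hm k hk, e, g.φ_zero]
  have key : ∀ n < 128, ∀ k < 128, mc n k = 0 → mc k n = 0 := by decide +kernel
  have h2 : mc n k = 0 := hg _ (mc_lt n hn k hk) h1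
  have e1 : g.φ k * g.φ n = 1 := by rw [g.φ_mul k hk n hn, key n hn k hk h2, g.φ_zero]
  have uniq : ∀ n < 128, ∀ m < 128, ∀ k ∈ [(List.range 128).findIdx (fun k => mc m k == 0)],
      mc n k = 0 → n = m := by decide +kernel
  have uk : ∀ m < 128, ∀ k < 128, mc m k = 0 → k = (List.range 128).findIdx (fun k => mc m k == 0) := by
    decide +kernel
  exact uniq n hn m hm k (List.mem_singleton.2 (uk m hm k hk e)) h2

theorem Gens.Faith.card_grp [Finite G] {g : Gens G} (hg : g.Faith) : Nat.card g.grp = 128 := by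
  let f : Fin 128 → g.grp := fun n => ⟨g.φ n, n, n.2, rfl⟩
  have hf : Function.Bijective f := ⟨fun n m h => Fin.ext (hg.eq n.2 m.2 (congrArg Subtype.val h)),
    fun ⟨x, n, hn, hx⟩ => ⟨⟨n, hn⟩, Subtype.ext hx⟩⟩
  rw [← Nat.card_congr (Equiv.ofBijective f hf), Nat.card_fin]

set_option synthInstance.maxSize 1024 in
set_option synthInstance.maxHeartbeats 200000 in
theorem perm_regular : ∀ s : A5, s * s = 1 → s ≠ 1 → ∀ r : A5, r * s = s * r → r ≠ 1 → r ≠ s →
    ∀ i j : Fin 5, (s : Perm (Fin 5)) i = i → j ≠ i →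
      (s : Perm (Fin 5)) j ≠ j ∧ (r : Perm (Fin 5)) j ≠ j ∧
        (r : Perm (Fin 5)) j ≠ (s : Perm (Fin 5)) j ∧ (s : Perm (Fin 5)) ((r : Perm (Fin 5)) j) ≠ j ∧
        (s : Perm (Fin 5)) ((r : Perm (Fin 5)) j) ≠ (s : Perm (Fin 5)) j ∧
        (s : Perm (Fin 5)) ((r : Perm (Fin 5)) j) ≠ (r : Perm (Fin 5)) j := by decide +kernel

theorem indep : ∀ p : Fin 4 → Fin 5, (∀ i j, p i = p j → i = j) → ∀ n < 16,
    (if n % 2 = 1 then E (p 0) else 0) + (if n / 2 % 2 = 1 then E (p 1) else 0) +
      (if n / 4 % 2 = 1 then E (p 2) else 0) + (if n / 8 % 2 = 1 then E (p 3) else 0) = 0 → n = 0 := by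
  decide +kernel

variable [Finite G] {z : G} {Q : Subgroup G}

theorem exists_gens (h : Hyp z Q) : ∃ g : Gens G, g.Faith ∧ g.z = z ∧ (∀ n < 32, g.φ n ∈ Q) ∧
    ∀ x ∈ g.grp, Commute x z := by
  classical
  obtain ⟨F⟩ := exists_frame h
  obtain ⟨t, htz, htt, htQ⟩ := exists_outer h
  obtain ⟨i, hi⟩ := F.exists_fixed htz htt htQ
  set W := Aux z t
  let res : W →* A5 := F.π.comp (Subgroup.inclusion inf_le_right)
  have hker : Nat.card res.ker ≤ 4 := by
    let f : res.ker → ({1, z, F.u i, F.u i * z} : Finset G) := fun x => ⟨((x : W) : G), by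
      have hxQ : ((x : W) : G) ∈ Q := (F.ker _).1 x.2
      simpa using F.cent_core htz htt htQ hi hxQ (mem_aux.1 (x : W).2).1⟩
    have hf : Function.Injective f := fun x y e => Subtype.ext (Subtype.ext (congrArg Subtype.val e :))
    refine (Nat.card_le_card_of_injective f hf).trans ?_
    rw [Nat.card_eq_finsetCard]
    exact Finset.card_le_four
  have hrange : 4 ≤ Nat.card res.range := by
    have h1 := res.ker.card_mul_index
    rw [Subgroup.index_ker] at h1
    have h2 : Nat.card W = 16 := inter_card h htz htt htQ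
    by_contra hlt
    push Not at hlt
    have h3 : Nat.card res.ker * Nat.card res.range ≤ 4 * 3 := Nat.mul_le_mul hker (Nat.le_of_lt_succ hlt)
    omega
  have htW : t ∈ W := mem_aux.2 ⟨Commute.refl t, htz⟩
  set s := F.π (cen z htz) with hs
  obtain ⟨b, hbW, hb1, hbs⟩ : ∃ b : G, ∃ hb : Commute b t ∧ Commute b z,
      F.π (cen z hb.2) ≠ 1 ∧ F.π (cen z hb.2) ≠ s := by
    by_contra! hall
    have hsub : ∀ y : res.range, (y : A5) = 1 ∨ (y : A5) = s := by
      rintro ⟨_, x, rfl⟩
      by_cases e : res x = 1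
      · exact Or.inl e
      · exact Or.inr (hall x (mem_aux.1 x.2) e)
    let f : res.range → ({1, s} : Finset A5) := fun y => ⟨y, by simpa using hsub y⟩
    have hf : Function.Injective f := fun x y e => Subtype.ext (congrArg Subtype.val e :)
    have h4 := Nat.card_le_card_of_injective f hf
    rw [Nat.card_eq_finsetCard] at h4
    have h5 : ({1, s} : Finset A5).card ≤ 2 := Finset.card_le_two
    omega
  obtain ⟨hbt, hbz⟩ := hbW
  have hbb : b * b = 1 := inter_sq h htz htt htQ hbz hbt
  set r := F.π (cen z hbz) with hr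
  have hrs : r * s = s * r := by
    rw [hr, hs, ← map_mul, ← map_mul]
    exact congrArg F.π (Subtype.ext hbt.eq)
  have hs2 : s * s = 1 ∧ s ≠ 1 := F.pi_inv htz htt htQ
  obtain ⟨j, hj⟩ : ∃ j : Fin 5, j ≠ i := exists_ne i
  obtain ⟨d1, d2, d3, d4, d5, d6⟩ := perm_regular s hs2.1 hs2.2 r hrs hb1 hbs i j hi hj
  let p : Fin 4 → Fin 5 := ![j, (s : Perm (Fin 5)) j, (r : Perm (Fin 5)) j,
    (s : Perm (Fin 5)) ((r : Perm (Fin 5)) j)]
  have hp : ∀ k l, p k = p l → k = l := by
    intro k l
    fin_cases k <;> fin_cases l <;> simp [p, d1, d2, d3, d4, d5, d6, d1.symm, d2.symm, d3.symm, d4.symm, d5.symm,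
      d6.symm]
  let v : Fin 4 → G := ![F.u j, t * F.u j * t, b * F.u j * b, t * (b * F.u j * b) * t]
  have hclass : ∀ (c : G) (hc : Commute c z) (x : G) (k : Fin 5), c * c = 1 → (x = F.u k ∨ x = F.u k * z) →
      c * x * c = F.u ((F.π (cen z hc) : Perm (Fin 5)) k) ∨
        c * x * c = F.u ((F.π (cen z hc) : Perm (Fin 5)) k) * z := by
    intro c hc x k hcc hx
    have hci : c⁻¹ = c := inv_eq_of_mul_eq_one_right hcc
    have hact := F.act (cen z hc) k
    simp only [cen] at hact
    rw [hci] at hact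
    rcases hx with rfl | rfl
    · exact hact
    · rw [show c * (F.u k * z) * c = c * F.u k * c * z by rw [mul_assoc, mul_assoc _ z c, ← hc.eq]; group]
      rcases hact with e | e <;> rw [e]
      · exact Or.inr rfl
      · exact Or.inl (by rw [mul_assoc, F.S.xt.sq, mul_one]; rfl)
  have hv : ∀ k, v k = F.u (p k) ∨ v k = F.u (p k) * z := by
    intro k
    fin_cases k
    · exact Or.inl rfl
    · exact hclass t htz _ j htt (Or.inl rfl)
    · exact hclass b hbz _ j hbb (Or.inl rfl)
    · exact hclass t htz _ _ htt (hclass b hbz _ j hbb (Or.inl rfl))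
  have hvQ : ∀ k, v k ∈ Q := fun k => by
    rcases hv k with e | e <;> rw [e]
    · exact F.mem _
    · exact Q.mul_mem (F.mem _) F.S.xt.mem
  have hvec : ∀ k, F.vec (v k) = E (p k) := fun k => by
    rcases hv k with e | e <;> rw [e]
    · exact F.vec_u _
    · rw [F.vec_mul (F.mem _) F.S.xt.mem, F.vec_z, add_zero, F.vec_u]
  have hvv : ∀ k, v k * v k = 1 := fun k => by
    rcases hv k with e | e <;> rw [e]
    · exact F.sq _
    · rw [show F.u (p k) * z * (F.u (p k) * z) = F.u (p k) * (z * F.u (p k)) * z by group,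
        (F.S.xt.cen _ (F.mem _)).eq, ← mul_assoc, F.sq, one_mul, F.S.xt.sq]
  have hanti : ∀ k l, k ≠ l → v k * v l = v l * v k * z := fun k l hkl => by
    refine CentTransfer.moved F.S (hvQ k) (hvQ l) fun hc => hkl (hp k l ?_)
    have hz : ∀ m, Commute z (F.u m) := fun m => F.S.xt.cen _ (F.mem m)
    refine F.nc _ _ ?_
    rcases hv k with e | e <;> rcases hv l with e' | e' <;> rw [e, e'] at hc
    · exact hc
    · simpa [mul_assoc, F.S.xt.sq] using hc.mul_right (hz (p k)).symm
    · simpa [mul_assoc, F.S.xt.sq] using hc.mul_left (hz (p l))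
    · have h1 := hc.mul_right (((hz (p k)).symm).mul_left (Commute.refl z))
      rw [mul_assoc (F.u (p l)), F.S.xt.sq, mul_one] at h1
      simpa [mul_assoc, F.S.xt.sq] using h1.mul_left (hz (p l))
  have hab : t * b = b * t := hbt.symm.eq
  have hmv : ∀ {c x : G}, c * c = 1 → c * x = c * x * c * c := fun {c x} hcc => by
    rw [mul_assoc _ c c, hcc, mul_one]
  have hbtb : b * (t * F.u j * t) * b = t * (b * F.u j * b) * t := by
    calc b * (t * F.u j * t) * b = (b * t) * F.u j * (t * b) := by group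
      _ = (t * b) * F.u j * (b * t) := by rw [hab]
      _ = _ := by group
  let g : Gens G :=
    { z := z, a := t, b := b, u := v
      zz := F.S.xt.sq, aa := htt, bb := hbb, uu := hvv
      za := htz.symm.eq, zb := hbz.symm.eq
      zu := fun k => (F.S.xt.cen _ (hvQ k)).eq
      ab := hab
      anti := hanti
      au := ⟨hmv htt, by
          show t * (t * F.u j * t) = F.u j * t
          rw [← mul_assoc, ← mul_assoc, htt, one_mul],
        hmv htt, by
          show t * (t * (b * F.u j * b) * t) = b * F.u j * b * t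
          rw [← mul_assoc, ← mul_assoc, htt, one_mul]⟩
      bu := ⟨hmv hbb, by
          show b * (b * F.u j * b) = F.u j * b
          rw [← mul_assoc, ← mul_assoc, hbb, one_mul],
        by
          show b * (t * F.u j * t) = t * (b * F.u j * b) * t * b
          rw [← hbtb, mul_assoc _ b b, hbb, mul_one],
        by
          show b * (t * (b * F.u j * b) * t) = t * F.u j * t * b
          rw [← hbtb, ← mul_assoc, ← mul_assoc, hbb, one_mul]⟩ }
  have hzpw : ∀ k, pw z k ∈ Q := fun k => by unfold pw; split; exacts [F.S.xt.mem, Q.one_mem]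
  have hupw : ∀ k m, pw (v k) m ∈ Q := fun k m => by unfold pw; split; exacts [hvQ k, Q.one_mem]
  have hEQ : ∀ n, g.E n ∈ Q := fun n =>
    Q.mul_mem (hupw 0 _) (Q.mul_mem (hupw 1 _) (Q.mul_mem (hupw 2 _) (hupw 3 _)))
  have hQ32 : ∀ n < 32, g.φ n ∈ Q := fun n hn => by
    rw [Gens.φ, show n / 32 = 0 by omega]
    simpa [Gens.V, pw] using Q.mul_mem (hEQ n) (hzpw (n / 16))
  have hcomm : ∀ n, Commute (g.φ n) z := fun n => by
    have h1 : ∀ (x : G), Commute x z → ∀ k, Commute (pw x k) z := fun x hx k => by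
      unfold pw; split
      exacts [hx, Commute.one_left _]
    exact (F.S.xt.cen _ (hEQ n)).symm.mul_left
      ((h1 _ (Commute.refl z) _).mul_left ((h1 _ htz _).mul_left (h1 _ hbz _)))
  refine ⟨g, ?_, rfl, hQ32, fun x ⟨n, _, e⟩ => e ▸ hcomm n⟩
  intro n hn h1
  have hV : g.V (n / 32) ∈ Q := by
    have h2 : g.E n * pw z (n / 16) ∈ Q := Q.mul_mem (hEQ n) (hzpw _)
    have h3 : g.V (n / 32) = (g.E n * pw z (n / 16))⁻¹ := by
      refine eq_inv_of_mul_eq_one_right ?_
      rw [mul_assoc]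
      exact h1
    exact h3 ▸ Q.inv_mem h2
  have hk : n / 32 = 0 := by
    have hlt : n / 32 < 4 := by omega
    generalize n / 32 = k at hV hlt
    interval_cases k
    · rfl
    · exact absurd (by simpa [Gens.V, pw, g] using hV) htQ
    · have hb' : b ∈ Q := by simpa [Gens.V, pw, g] using hV
      exact absurd ((F.ker (cen z hbz)).2 hb') hb1
    · refine absurd ?_ hbs
      have hb' : t * b ∈ Q := by simpa [Gens.V, pw, g] using hV
      have h4 := (F.ker (cen z (htz.mul_left hbz))).2 hb'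
      rw [show (cen z (htz.mul_left hbz)) = cen z htz * cen z hbz from rfl, map_mul] at h4
      exact (eq_inv_of_mul_eq_one_right h4).trans (inv_eq_of_mul_eq_one_right hs2.1)
  have hz0 : ∀ k, F.vec (pw z k) = 0 := fun k => by unfold pw; split; exacts [F.vec_z, F.vec_one]
  have hu0 : ∀ k m, F.vec (pw (v k) m) = if m % 2 = 1 then E (p k) else 0 := fun k m => by
    unfold pw; split; exacts [hvec k, F.vec_one]
  have hE : g.φ n = g.E n * pw z (n / 16) := by
    rw [Gens.φ, hk]
    simp [Gens.V, pw, g]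
  rw [hE] at h1
  have h5 : F.vec (g.E n) = 0 := by
    have := congrArg F.vec h1
    rwa [F.vec_mul (hEQ n) (hzpw _), hz0, add_zero, F.vec_one] at this
  have h6 : n % 16 = 0 := by
    refine indep p hp _ (Nat.mod_lt _ (by norm_num)) ?_
    rw [← g.E_mod] at h5
    have hb' : ∀ k m, pw (v k) m ∈ Q := hupw
    rw [Gens.E, F.vec_mul (hb' 0 _) (Q.mul_mem (hb' 1 _) (Q.mul_mem (hb' 2 _) (hb' 3 _))),
      F.vec_mul (hb' 1 _) (Q.mul_mem (hb' 2 _) (hb' 3 _)), F.vec_mul (hb' 2 _) (hb' 3 _), hu0, hu0, hu0, hu0,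
      ← add_assoc, ← add_assoc] at h5
    exact h5
  have h7 : pw z (n / 16) = 1 := by
    rw [← g.E_mod, h6] at h1
    simpa [Gens.E, pw] using h1
  by_contra hn0
  exact F.S.xt.ne (by simpa [pw, show n / 16 = 1 by omega] using h7)

open Cfsg.Spor J2Cert in
/-- every Sylow 2-subgroup of J₂ is of this shape, and the model has a central involution with the standard
centraliser -/
theorem j2_gens : ∃ g : Gens J2, g.Faith ∧ g.z = tJ 0 ∧
    ∃ P : Sylow 2 J2, (P : Subgroup J2) = g.grp := by
  haveI : Fact (Nat.Prime 2) := ⟨Nat.prime_two⟩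
  obtain ⟨g, hg, hz, -, -⟩ := exists_gens J2Unique.j2_hyp
  have hp : IsPGroup 2 g.grp := IsPGroup.of_card (n := 7) (by rw [hg.card_grp]; norm_num)
  obtain ⟨P, hP⟩ := hp.exists_le_sylow
  refine ⟨g, hg, hz, P, (Subgroup.eq_of_le_of_card_ge hP ?_).symm⟩
  rw [hg.card_grp]
  obtain ⟨k, hk⟩ := P.2.exists_card_eq
  have hJ : Nat.card J2 = 604800 := S1619.result.2.2.2
  have hd : Nat.card (P : Subgroup J2) ∣ 604800 := hJ ▸ Subgroup.card_subgroup_dvd_card _
  rw [hk] at hd ⊢
  by_contra hlt
  push Not at hlt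
  have h8 : 2 ^ 8 ∣ 604800 := (pow_dvd_pow 2 (by
    by_contra hk8
    exact absurd (Nat.pow_le_pow_right two_pos (by omega : k ≤ 7)) (by norm_num; omega))).trans hd
  norm_num at h8

end Cfsg.Agent.Lie.JankoSylow
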