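import Mathlib

/-!
A Sylow 2-subgroup of the Hall–Janko group on codes `0 … 127`: the code of `u₀^e₀ u₁^e₁ u₂^e₂ u₃^e₃ z^c a^i b^j`
is `e₀ + 2e₁ + 4e₂ + 8e₃ + 16c + 32i + 64j`, the `uᵢ` being pairwise non-commuting involutions with commutator `z`,
permuted by the commuting involutions `a = (01)(23)` and `b = (02)(13)`.
-/

set_option autoImplicit false
set_option maxRecDepth 10000
set_option Elab.async false

namespace Cfsg.Agent.Lie.JankoSylow

/-- conjugates of normal words by `a^i b^j`, reordered: five bits for each of the 64 cases -/
def actTab : ℕ :=
  1051020786566607498735399734021052105531890288782187831183251252797984181527332275731640480794656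

/-- signs of products of two normal words: one bit for each of the 256 cases -/
def sgnTab : ℕ :=
  40867796217264508184565122775466261096999833863607151025216202233750145204224

/-- multiplication of codes -/
def mc (x y : ℕ) : ℕ :=
  let f := actTab / 2 ^ (5 * (16 * (x / 32) + y % 16)) % 32
  Nat.xor (x % 16) (f % 16) + 16 * ((x / 16 + y / 16 + f / 16 + sgnTab / 2 ^ (16 * (x % 16) + f % 16)) % 2) +
    32 * Nat.xor (x / 32) (y / 32)

/-- squares -/
def sq (x : ℕ) : ℕ := mc x x

/-- `p = u₀u₁u₂u₃` -/
def cp : ℕ := 15

/-- the centre generator -/
def cz : ℕ := 16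

def comB (x y : ℕ) : Bool := mc x y == mc y x

/-- `x y = y x z'` with `z'` central -/
def comZ (x y : ℕ) : Bool := comB x y || mc x y == mc cz (mc y x)

def inZ (x : ℕ) : Bool := x == 0 || x == cz

def inZA (x : ℕ) : Bool := inZ x || x == cp || x == cp + cz

def inA (x : ℕ) : Bool := comB x cp

def inQ (x : ℕ) : Bool := x < 32

/-- preimages of the three four-subgroups of the abelian quotient -/
def inP1 (x : ℕ) : Bool := inA x && (inZA x || sq x == cp)

theorem mc_lt : ∀ x < 128, ∀ y < 128, mc x y < 128 := by decide +kernel

theorem mc_one : ∀ x < 128, mc x 0 = x ∧ mc 0 x = x := by decide +kernel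

theorem exists_inv : ∀ x < 128, ∃ y < 128, mc x y = 0 := by decide +kernel

/-- decomposition into the seven generators -/
theorem mc_steps : ∀ n < 128, n = mc (if n.testBit 0 then 1 else 0) (mc (if n.testBit 1 then 2 else 0)
    (mc (if n.testBit 2 then 4 else 0) (mc (if n.testBit 3 then 8 else 0) (mc (if n.testBit 4 then 16 else 0)
      (mc (if n.testBit 5 then 32 else 0) (if n.testBit 6 then 64 else 0)))))) := by decide +kernel

/-- the centre -/
theorem center_facts : ∀ x < 128, ((List.range 128).all fun y => comB x y) = inZ x := by decide +kernel

/-- the core is the only subgroup of order 32 elementary abelian modulo the centre -/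
theorem core_unique : ∀ x < 128, inQ x = false → inZ (sq x) = true →
    ((List.range 128).filter fun y => inZ (sq y) && comZ x y).length < 32 := by decide +kernel

theorem core_facts : ∀ x < 128, inQ x = true → inZ (sq x) = true ∧
    ∀ y < 128, inQ y = true → comZ x y = true := by decide +kernel

theorem core_normal : ∀ x < 128, ∀ y < 128, inQ (mc x y) = inQ (mc y x) := by decide +kernel

/-- the quotient by the core is a four-group -/
theorem mc_top : ∀ x < 128, ∀ y < 128, mc x y / 32 = Nat.xor (x / 32) (y / 32) := by decide +kernel

/-- large element centralisers -/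
theorem big_cent : ∀ w < 128, inZ w = false → 64 ≤ ((List.range 128).filter fun y => comB w y).length →
    ∀ y < 128, comB w y = inA y := by decide +kernel

theorem inA_card : ((List.range 128).filter inA).length = 64 := by decide +kernel

/-- involutory squares -/
theorem sq_invol : ∀ x < 128, sq (sq x) = 0 → inZA (sq x) = true := by decide +kernel

theorem za_facts : ∀ x < 128, inZA x = true → inA x = true ∧ inQ x = true ∧ sq x = 0 ∧
    ∀ y < 128, inA y = true → comB x y = true := by decide +kernel

theorem invol_AQ : ∀ x < 128, inA x = true → inQ x = true → sq x = 0 → inZA x = true := by decide +kernel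

/-- the witness involution outside the subgroup `A` -/
theorem u_facts : inQ 1 = true ∧ inA 1 = false ∧ sq 1 = 0 ∧
    ∃ q < 128, comB 1 q = true ∧ sq q = cz := by decide +kernel

/-- an element outside the core yields the class of `p` from its centraliser modulo the centre -/
theorem outer_comm : ∀ t < 128, inQ t = false → inZ (sq t) = true → ∃ y < 128, comZ t y = true ∧
    ∃ y' < 128, comZ t y' = true ∧ (mc y y' = mc (mc y' y) cp ∨ mc y y' = mc (mc y' y) (cp + cz)) := by
  decide +kernel

/-- `A ∩ Q` by squares -/
theorem core_in_A : ∀ x < 128, inA x = true → inQ x = (inZA x || sq x == cz) := by decide +kernel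

theorem A_facts : ∀ x < 128, inA x = true → inZA (sq x) = true ∧
    ∀ y < 128, inA y = true → inA (mc x y) = true ∧
      ∃ c ∈ [0, cz, cp, cp + cz], mc (mc y x) c = mc x y := by
  decide +kernel

theorem P1_facts : ((List.range 128).filter inP1).length = 16 ∧
    ∀ x < 128, inP1 x = true → (inQ x = true → inZA x = true) ∧ ∀ y < 128, inP1 y = true → inP1 (mc x y) = true := by
  decide +kernel

theorem A_product : ∀ x < 128, inA x = true → ∃ y < 128, inP1 y = true ∧ inQ (mc y x) = true := by decide +kernel

theorem cent_P0 : ∀ x < 128, inA x = true →
    (∀ y < 128, inA y = true → inQ y = true → comB x y = true) → inZA x = true := by decide +kernel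

theorem cent_P1 : ∀ x < 128, inA x = true → (∀ y < 128, inP1 y = true → comB x y = true) → inZA x = true := by
  decide +kernel

/-- two elements of `Q` with the same square have the same kind of vector -/
theorem sq_core : ∀ x < 128, inQ x = true → sq x = 0 → inZA x = false → inA x = false := by decide +kernel

end Cfsg.Agent.Lie.JankoSylow
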