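import Mathlib
import Cfsg.Agent.Lib.Lie.JankoSylow.Model

/-!
Groups generated like a Sylow 2-subgroup of the Hall–Janko group.
-/

set_option autoImplicit false
set_option maxRecDepth 10000

namespace Cfsg.Agent.Lie.JankoSylow

universe u

variable {G : Type u} [Group G]

def pw (g : G) (k : ℕ) : G := if k % 2 = 1 then g else 1

theorem pw_mul_self {g : G} (hg : g * g = 1) (k l : ℕ) : pw g k * pw g l = pw g (k + l) := by
  rcases Nat.mod_two_eq_zero_or_one k with hk | hk <;> rcases Nat.mod_two_eq_zero_or_one l with hl | hl <;>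
    simp [pw, Nat.add_mod, hk, hl, hg]

/-- generators with the relations of a Sylow 2-subgroup of J₂ -/
structure Gens (G : Type u) [Group G] where
  z : G
  a : G
  b : G
  u : Fin 4 → G
  zz : z * z = 1
  aa : a * a = 1
  bb : b * b = 1
  uu : ∀ i, u i * u i = 1
  za : z * a = a * z
  zb : z * b = b * z
  zu : ∀ i, z * u i = u i * z
  ab : a * b = b * a
  anti : ∀ i j, i ≠ j → u i * u j = u j * u i * z
  au : a * u 0 = u 1 * a ∧ a * u 1 = u 0 * a ∧ a * u 2 = u 3 * a ∧ a * u 3 = u 2 * a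
  bu : b * u 0 = u 2 * b ∧ b * u 2 = u 0 * b ∧ b * u 1 = u 3 * b ∧ b * u 3 = u 1 * b

namespace Gens

variable (g : Gens G)

def E (n : ℕ) : G := pw (g.u 0) n * (pw (g.u 1) (n / 2) * (pw (g.u 2) (n / 4) * pw (g.u 3) (n / 8)))

def V (k : ℕ) : G := pw g.a k * pw g.b (k / 2)

/-- the element with a given code -/
def φ (n : ℕ) : G := g.E n * (pw g.z (n / 16) * g.V (n / 32))

theorem E_mod (n : ℕ) : g.E (n % 16) = g.E n := by
  have h0 : n % 16 % 2 = n % 2 := by omega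
  have h1 : n % 16 / 2 % 2 = n / 2 % 2 := by omega
  have h2 : n % 16 / 4 % 2 = n / 4 % 2 := by omega
  have h3 : n % 16 / 8 % 2 = n / 8 % 2 := by omega
  simp only [E, pw, h0, h1, h2, h3]

theorem pw_mod (x : G) (n : ℕ) : pw x (n % 2) = pw x n := by simp [pw]

theorem φ_eq (e c k : ℕ) (he : e < 16) (hc : c < 2) : g.φ (e + 16 * c + 32 * k) = g.E e * (pw g.z c * g.V k) := by
  rw [φ, show (e + 16 * c + 32 * k) / 32 = k by omega, ← g.E_mod (e + 16 * c + 32 * k),
    show (e + 16 * c + 32 * k) % 16 = e by omega, ← pw_mod g.z ((e + 16 * c + 32 * k) / 16),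
    show (e + 16 * c + 32 * k) / 16 % 2 = c by omega]

theorem φ_zero : g.φ 0 = 1 := by simp [φ, E, V, pw]

theorem z_comm_E (n : ℕ) : Commute g.z (g.E n) := by
  have h : ∀ i k, Commute g.z (pw (g.u i) k) := fun i k => by
    unfold pw; split
    · exact g.zu i
    · exact Commute.one_right _
  exact (h 0 _).mul_right ((h 1 _).mul_right ((h 2 _).mul_right (h 3 _)))

theorem z_comm_V (k : ℕ) : Commute g.z (g.V k) := by
  have h : ∀ (x : G), Commute g.z x → ∀ k, Commute g.z (pw x k) := fun x hx k => by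
    unfold pw; split
    · exact hx
    · exact Commute.one_right _
  exact (h _ g.za _).mul_right (h _ g.zb _)

theorem swap' {i j : Fin 4} (h : i ≠ j) : g.u i * g.u j = g.u j * (g.u i * g.z) := by
  rw [g.anti i j h, mul_assoc]

/-- rewriting rules for normal words -/
theorem rules : (g.u 1 * g.u 0 = g.u 0 * (g.u 1 * g.z)) ∧ (g.u 2 * g.u 0 = g.u 0 * (g.u 2 * g.z)) ∧
    (g.u 3 * g.u 0 = g.u 0 * (g.u 3 * g.z)) ∧ (g.u 2 * g.u 1 = g.u 1 * (g.u 2 * g.z)) ∧
    (g.u 3 * g.u 1 = g.u 1 * (g.u 3 * g.z)) ∧ (g.u 3 * g.u 2 = g.u 2 * (g.u 3 * g.z)) ∧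
    (∀ x, g.u 1 * (g.u 0 * x) = g.u 0 * (g.u 1 * (g.z * x))) ∧ (∀ x, g.u 2 * (g.u 0 * x) = g.u 0 * (g.u 2 * (g.z * x))) ∧
    (∀ x, g.u 3 * (g.u 0 * x) = g.u 0 * (g.u 3 * (g.z * x))) ∧ (∀ x, g.u 2 * (g.u 1 * x) = g.u 1 * (g.u 2 * (g.z * x))) ∧
    (∀ x, g.u 3 * (g.u 1 * x) = g.u 1 * (g.u 3 * (g.z * x))) ∧ (∀ x, g.u 3 * (g.u 2 * x) = g.u 2 * (g.u 3 * (g.z * x))) ∧
    (∀ i x, g.z * (g.u i * x) = g.u i * (g.z * x)) ∧ (∀ i x, g.u i * (g.u i * x) = x) ∧ (∀ x, g.z * (g.z * x) = x) := by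
  have h : ∀ {i j : Fin 4}, i ≠ j → ∀ x, g.u i * (g.u j * x) = g.u j * (g.u i * (g.z * x)) := fun {i j} hij x => by
    rw [← mul_assoc, g.swap' hij]; simp only [mul_assoc]
  exact ⟨g.swap' (by decide), g.swap' (by decide), g.swap' (by decide), g.swap' (by decide), g.swap' (by decide),
    g.swap' (by decide), h (by decide), h (by decide), h (by decide), h (by decide), h (by decide), h (by decide),
    fun i x => by rw [← mul_assoc, g.zu, mul_assoc], fun i x => by rw [← mul_assoc, g.uu, one_mul],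
    fun x => by rw [← mul_assoc, g.zz, one_mul]⟩

theorem u_step : ∀ m : Fin 4, ∀ e : Fin 16, g.u m * g.E e.val =
    g.E (mc (2 ^ m.val) e.val % 16) * pw g.z (mc (2 ^ m.val) e.val / 16) := by
  obtain ⟨r1, r2, r3, r4, r5, r6, s1, s2, s3, s4, s5, s6, tz, tu, tzz⟩ := g.rules
  intro m e
  have hm : m = 0 ∨ m = 1 ∨ m = 2 ∨ m = 3 := by revert m; decide
  rcases hm with rfl | rfl | rfl | rfl <;> fin_cases e <;>
    norm_num (config := { decide := true }) [E, pw, mc, actTab, sgnTab, g.uu, g.zz, g.zu, r1, r2, r3, r4, r5, r6, s1, s2, s3, s4, s5, s6, tz, tu,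
      tzz, mul_assoc]

theorem a_step : ∀ e : Fin 16, g.a * g.E e.val = g.E (mc 32 e.val % 16) * pw g.z (mc 32 e.val / 16) * g.a := by
  obtain ⟨r1, r2, r3, r4, r5, r6, s1, s2, s3, s4, s5, s6, tz, tu, tzz⟩ := g.rules
  obtain ⟨a0, a1, a2, a3⟩ := g.au
  have a0' : ∀ x, g.a * (g.u 0 * x) = g.u 1 * (g.a * x) := fun x => by rw [← mul_assoc, a0, mul_assoc]
  have a1' : ∀ x, g.a * (g.u 1 * x) = g.u 0 * (g.a * x) := fun x => by rw [← mul_assoc, a1, mul_assoc]
  have a2' : ∀ x, g.a * (g.u 2 * x) = g.u 3 * (g.a * x) := fun x => by rw [← mul_assoc, a2, mul_assoc]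
  have za' : ∀ x, g.a * (g.z * x) = g.z * (g.a * x) := fun x => by rw [← mul_assoc, ← g.za, mul_assoc]
  intro e
  fin_cases e <;>
    norm_num (config := { decide := true }) [E, pw, mc, actTab, sgnTab, g.uu, g.zz, g.zu, r1, r2, r3, r4, r5, r6, s1, s2, s3, s4, s5, s6, tz, tu,
      tzz, a0, a1, a2, a3, a0', a1', a2', za', g.za.symm, mul_assoc]

theorem b_step : ∀ e : Fin 16, g.b * g.E e.val = g.E (mc 64 e.val % 16) * pw g.z (mc 64 e.val / 16) * g.b := by
  obtain ⟨r1, r2, r3, r4, r5, r6, s1, s2, s3, s4, s5, s6, tz, tu, tzz⟩ := g.rules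
  obtain ⟨b0, b2, b1, b3⟩ := g.bu
  have b0' : ∀ x, g.b * (g.u 0 * x) = g.u 2 * (g.b * x) := fun x => by rw [← mul_assoc, b0, mul_assoc]
  have b1' : ∀ x, g.b * (g.u 1 * x) = g.u 3 * (g.b * x) := fun x => by rw [← mul_assoc, b1, mul_assoc]
  have b2' : ∀ x, g.b * (g.u 2 * x) = g.u 0 * (g.b * x) := fun x => by rw [← mul_assoc, b2, mul_assoc]
  have zb' : ∀ x, g.b * (g.z * x) = g.z * (g.b * x) := fun x => by rw [← mul_assoc, ← g.zb, mul_assoc]
  intro e
  fin_cases e <;>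
    norm_num (config := { decide := true }) [E, pw, mc, actTab, sgnTab, g.uu, g.zz, g.zu, r1, r2, r3, r4, r5, r6, s1, s2, s3, s4, s5, s6, tz, tu,
      tzz, b0, b1, b2, b3, b0', b1', b2', zb', g.zb.symm, mul_assoc]

theorem code_split : ∀ m < 7, ∀ y < 128, mc (2 ^ m) y =
    mc (2 ^ m) (y % 16) % 16 + 16 * ((mc (2 ^ m) (y % 16) / 16 + y / 16) % 2) +
      32 * Nat.xor (2 ^ m / 32) (y / 32) := by decide +kernel

theorem code_low : ∀ m < 4, ∀ e < 16, mc (2 ^ m) e < 32 := by decide +kernel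

theorem code_high : ∀ e < 16, mc 32 e / 32 = 1 ∧ mc 64 e / 32 = 2 := by decide +kernel

/-- left multiplication by a generator -/
def gen (m : ℕ) : G := g.φ (2 ^ m)

theorem gen_mul : ∀ m < 7, ∀ y < 128, g.φ (2 ^ m) * g.φ y = g.φ (mc (2 ^ m) y) := by
  have hz : ∀ k, Commute (pw g.z k) g.a ∧ Commute (pw g.z k) g.b := fun k => by
    unfold pw; split
    · exact ⟨g.za, g.zb⟩
    · exact ⟨Commute.one_left _, Commute.one_left _⟩
  intro m hm y hy
  have hy' : g.φ y = g.E (y % 16) * (pw g.z (y / 16) * g.V (y / 32)) := by rw [φ, E_mod]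
  have he : y % 16 < 16 := Nat.mod_lt _ (by norm_num)
  have hk : y / 32 < 4 := by omega
  rw [code_split m hm y hy, g.φ_eq _ _ _ (Nat.mod_lt _ (by norm_num)) (Nat.mod_lt _ (by norm_num)), pw_mod, hy',
    ← pw_mul_self g.zz, mul_assoc (pw g.z (mc (2 ^ m) (y % 16) / 16))]
  rcases (by omega : m < 4 ∨ m = 4 ∨ m = 5 ∨ m = 6) with h | rfl | rfl | rfl
  · have hu : g.φ (2 ^ m) = g.u ⟨m, h⟩ := by
      interval_cases m <;> simp [φ, E, V, pw]
    have hk0 : Nat.xor (2 ^ m / 32) (y / 32) = y / 32 := by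
      interval_cases m <;> (generalize y / 32 = k at hk ⊢; interval_cases k <;> rfl)
    rw [hu, ← mul_assoc, g.u_step ⟨m, h⟩ ⟨y % 16, he⟩, hk0]
    simp only [mul_assoc]
  · have hu : g.φ (2 ^ 4) = g.z := by simp [φ, E, V, pw]
    have hk0 : Nat.xor (2 ^ 4 / 32) (y / 32) = y / 32 := by generalize y / 32 = k at hk ⊢; interval_cases k <;> rfl
    have hc : ∀ e < 16, mc (2 ^ 4) e = e + 16 := by decide +kernel
    rw [hu, ← mul_assoc, (g.z_comm_E _).eq, hk0, hc _ he, show (y % 16 + 16) % 16 = y % 16 by omega,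
      show (y % 16 + 16) / 16 = 1 by omega, show pw g.z 1 = g.z by simp [pw]]
    simp only [mul_assoc]
  · have hu : g.φ (2 ^ 5) = g.a := by simp [φ, E, V, pw]
    have hV : g.a * g.V (y / 32) = g.V (Nat.xor (2 ^ 5 / 32) (y / 32)) := by
      generalize y / 32 = k at hk ⊢
      interval_cases k <;> simp [V, pw, ← mul_assoc, g.aa] <;> decide
    have h32 : mc (2 ^ 5) (y % 16) % 16 = mc 32 (y % 16) % 16 := rfl
    rw [hu, ← mul_assoc, g.a_step ⟨y % 16, he⟩, ← hV]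
    simp only [mul_assoc, show (2 : ℕ) ^ 5 = 32 by norm_num]
    congr 2
    rw [← mul_assoc g.a, ← (hz _).1.eq, mul_assoc]
  · have hu : g.φ (2 ^ 6) = g.b := by simp [φ, E, V, pw]
    have hV : g.b * g.V (y / 32) = g.V (Nat.xor (2 ^ 6 / 32) (y / 32)) := by
      generalize y / 32 = k at hk ⊢
      interval_cases k <;> simp [V, pw, g.bb, ← g.ab]
      rw [← mul_assoc, ← g.ab, mul_assoc, g.bb, mul_one]
    rw [hu, ← mul_assoc, g.b_step ⟨y % 16, he⟩, ← hV]
    simp only [mul_assoc, show (2 : ℕ) ^ 6 = 64 by norm_num]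
    congr 2
    rw [← mul_assoc g.b, ← (hz _).2.eq, mul_assoc]

theorem peel : ∀ x < 128, x ≠ 0 → ∃ m < 7, 2 ^ m ≤ x ∧ mc (2 ^ m) (x - 2 ^ m) = x ∧
    (List.range 128).all (fun y => mc x y == mc (2 ^ m) (mc (x - 2 ^ m) y)) = true := by decide +kernel

theorem φ_mul : ∀ x < 128, ∀ y < 128, g.φ x * g.φ y = g.φ (mc x y) := by
  intro x
  induction x using Nat.strong_induction_on with
  | _ x ih =>
    intro hx y hy
    by_cases h0 : x = 0
    · subst h0
      rw [φ_zero, one_mul, (mc_one y hy).2]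
    obtain ⟨m, hm, hle, he, hall⟩ := peel x hx h0
    have h2 : mc x y = mc (2 ^ m) (mc (x - 2 ^ m) y) := by
      simpa using List.all_eq_true.1 hall y (List.mem_range.2 hy)
    have hw : x - 2 ^ m < x := by have := Nat.two_pow_pos m; omega
    rw [h2, ← gen_mul g m hm _ (mc_lt _ (by omega) _ hy), ← ih _ hw (by omega) y hy, ← mul_assoc,
      gen_mul g m hm _ (by omega), he]

/-- the generated subgroup -/
def grp : Subgroup G where
  carrier := {x | ∃ n < 128, g.φ n = x}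
  one_mem' := ⟨0, by norm_num, g.φ_zero⟩
  mul_mem' := by
    rintro _ _ ⟨n, hn, rfl⟩ ⟨m, hm, rfl⟩
    exact ⟨mc n m, mc_lt n hn m hm, (g.φ_mul n hn m hm).symm⟩
  inv_mem' := by
    rintro _ ⟨n, hn, rfl⟩
    obtain ⟨m, hm, e⟩ := exists_inv n hn
    refine ⟨m, hm, eq_inv_of_mul_eq_one_right ?_⟩
    rw [g.φ_mul n hn m hm, e, φ_zero]

/-- images of generators under a homomorphism -/
def map {H : Type*} [Group H] (f : G →* H) : Gens H where
  z := f g.z
  a := f g.a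
  b := f g.b
  u i := f (g.u i)
  zz := by rw [← map_mul, g.zz, map_one]
  aa := by rw [← map_mul, g.aa, map_one]
  bb := by rw [← map_mul, g.bb, map_one]
  uu i := by rw [← map_mul, g.uu, map_one]
  za := by rw [← map_mul, g.za, map_mul]
  zb := by rw [← map_mul, g.zb, map_mul]
  zu i := by rw [← map_mul, g.zu, map_mul]
  ab := by rw [← map_mul, g.ab, map_mul]
  anti i j h := by simp only [← map_mul, g.anti i j h]
  au := by simp only [← map_mul, g.au.1, g.au.2.1, g.au.2.2.1, g.au.2.2.2, and_self]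
  bu := by simp only [← map_mul, g.bu.1, g.bu.2.1, g.bu.2.2.1, g.bu.2.2.2, and_self]

theorem map_φ {H : Type*} [Group H] (f : G →* H) (n : ℕ) : (g.map f).φ n = f (g.φ n) := by
  have h : ∀ x k, f (pw x k) = pw (f x) k := fun x k => by unfold pw; split <;> simp
  simp only [φ, E, V, map, map_mul, h]

end Gens

end Cfsg.Agent.Lie.JankoSylow
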