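import Cfsg.Agent.Lib.Lie.JankoSylow.CoreQuot
import Cfsg.Agent.Lib.Lie.J2Unique.Model

/-!
The centraliser of a 2-central involution in a group with a Sylow 2-subgroup of the shape of that of J₂.
-/

set_option autoImplicit false
set_option linter.style.haveILetI false
set_option linter.unusedSectionVars false

namespace Cfsg.Agent.Lie.JankoSylow

universe u

variable {G : Type u} [Group G] [Finite G] (K : Ctx G)

open Cfsg.Spor J2Cert in
theorem j2_coord : Nonempty (Spor.JThree.Coord (tJ 0)) := by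
  obtain ⟨F⟩ := HJType.exists_frame J2Unique.j2_hyp
  exact Spor.JThree.exists_coord F (HJType.exists_outer J2Unique.j2_hyp) (Spor.JThree.card_centralizer F)

theorem Ctx.cent_iso (h2 : ∀ N : Subgroup G, N.Normal → N.index ≠ 2) :
    Nonempty ((↥(Subgroup.centralizer ({K.g.z} : Set G)) ⧸
        Cfsg.oddCore ↥(Subgroup.centralizer ({K.g.z} : Set G))) ≃*
      ↥(Subgroup.centralizer ({J2Cert.tJ 0} : Set Cfsg.Spor.J2))) := by
  classical
  haveI : Fact (Nat.Prime 2) := ⟨Nat.prime_two⟩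
  obtain ⟨g, hgz, hg⟩ := K.turn h2
  set C := Subgroup.centralizer ({K.g.z} : Set G) with hC
  have hle : (K.S : Subgroup G) ≤ C := fun s hs =>
    Subgroup.mem_centralizer_singleton_iff.2 (K.z_central hs).symm.eq
  obtain ⟨K1, hK1⟩ := K.exists_restrict C hle
  haveI : (Cfsg.oddCore ↥C).Normal := StrongProd.oddCore_normal _
  set O := Cfsg.oddCore ↥C
  have hinj : ∀ x ∈ (K1.S : Subgroup ↥C), QuotientGroup.mk' O x = 1 → x = 1 := by
    intro x hxS hx
    have hxO : x ∈ O := (QuotientGroup.eq_one_iff x).1 hx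
    obtain ⟨k, hk⟩ := IsPGroup.iff_orderOf.1 K1.S.2 ⟨x, hxS⟩
    rw [Subgroup.orderOf_mk] at hk
    rw [← orderOf_eq_one_iff, hk]
    rcases k with _ | k
    · rfl
    · have h2' := Fusion.mem_pPrimeCore_orderOf hxO
      rw [hk] at h2'
      exact absurd (Nat.coprime_two_right.1 h2') (by rw [pow_succ, Nat.not_odd_iff_even]; exact even_two.mul_left _)
  obtain ⟨K2, hK2⟩ := K1.exists_image (QuotientGroup.mk' O) (QuotientGroup.mk'_surjective O) hinj
  have hval : ((K1.g.z : ↥C) : G) = K.g.z := by rw [← K1.g.φ_gens.1, hK1, K.g.φ_gens.1]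
  have hz2 : K2.g.z = QuotientGroup.mk' O K1.g.z := by rw [← K2.g.φ_gens.1, hK2, K1.g.φ_gens.1]
  have hz : ∀ h, Commute K2.g.z h := fun h => by
    obtain ⟨h, rfl⟩ := QuotientGroup.mk'_surjective O h
    rw [hz2]
    refine Commute.map (?_ : Commute K1.g.z h) (QuotientGroup.mk' O)
    refine Subtype.ext ?_
    show (K1.g.z : G) * h = h * (K1.g.z : G)
    rw [hval]
    exact (Subgroup.mem_centralizer_singleton_iff.1 h.2).symm
  let g' : ↥C := ⟨g, Subgroup.mem_centralizer_singleton_iff.2 hgz.eq⟩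
  have hturn : ∃ t, t * K2.uu * t⁻¹ = K2.p ∨ t * K2.uu * t⁻¹ = K2.p * K2.g.z := by
    refine ⟨QuotientGroup.mk' O g', ?_⟩
    have hu : K2.uu = QuotientGroup.mk' O K1.uu := hK2 1
    have hp : K2.p = QuotientGroup.mk' O K1.p := hK2 cp
    rw [hu, hp, hz2, ← map_inv, ← map_mul, ← map_mul, ← map_mul]
    rcases hg with e | e
    · refine Or.inl (congrArg _ (Subtype.ext ?_))
      show g * ((K1.g.φ 1 : ↥C) : G) * g⁻¹ = ((K1.g.φ cp : ↥C) : G)
      rw [hK1, hK1]
      exact e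
    · refine Or.inr (congrArg _ (Subtype.ext ?_))
      show g * ((K1.g.φ 1 : ↥C) : G) * g⁻¹ = ((K1.g.φ cp : ↥C) : G) * (K1.g.z : G)
      rw [hK1, hK1, hval]
      exact e
  obtain ⟨c⟩ := Ctx.coord_exists K2 hz Fusion.pPrimeCore_quotient_eq_bot hturn
  obtain ⟨d⟩ := j2_coord
  obtain ⟨e⟩ := coord_iso c d
  have htop : Subgroup.centralizer ({K2.g.z} : Set (↥C ⧸ O)) = ⊤ := eq_top_iff.2 fun h _ =>
    Subgroup.mem_centralizer_singleton_iff.2 (hz h).symm.eq
  exact ⟨(Subgroup.topEquiv.symm.trans (MulEquiv.subgroupCongr htop.symm)).trans e⟩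

end Cfsg.Agent.Lie.JankoSylow
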