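import Cfsg.Agent.Lib.Lie.JankoSylow.Exists

/-!
A finite group with a Sylow 2-subgroup of the shape of the one of the Hall–Janko group: distinguished subgroups.
-/

set_option autoImplicit false
set_option maxRecDepth 10000
set_option linter.style.haveILetI false

namespace Cfsg.Agent.Lie.JankoSylow

universe u

variable {G : Type u} [Group G]

/-- generators inside a subgroup containing them -/
def Gens.restrict (g : Gens G) (K : Subgroup G) (hz : g.z ∈ K) (ha : g.a ∈ K) (hb : g.b ∈ K)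
    (hu : ∀ i, g.u i ∈ K) : Gens K where
  z := ⟨g.z, hz⟩
  a := ⟨g.a, ha⟩
  b := ⟨g.b, hb⟩
  u i := ⟨g.u i, hu i⟩
  zz := Subtype.ext g.zz
  aa := Subtype.ext g.aa
  bb := Subtype.ext g.bb
  uu i := Subtype.ext (g.uu i)
  za := Subtype.ext g.za
  zb := Subtype.ext g.zb
  zu i := Subtype.ext (g.zu i)
  ab := Subtype.ext g.ab
  anti i j h := Subtype.ext (g.anti i j h)
  au := ⟨Subtype.ext g.au.1, Subtype.ext g.au.2.1, Subtype.ext g.au.2.2.1, Subtype.ext g.au.2.2.2⟩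
  bu := ⟨Subtype.ext g.bu.1, Subtype.ext g.bu.2.1, Subtype.ext g.bu.2.2.1, Subtype.ext g.bu.2.2.2⟩

theorem Gens.φ_gens (g : Gens G) :
    g.φ 16 = g.z ∧ g.φ 32 = g.a ∧ g.φ 64 = g.b ∧ g.φ 1 = g.u 0 ∧ g.φ 2 = g.u 1 ∧ g.φ 4 = g.u 2 ∧ g.φ 8 = g.u 3 := by
  refine ⟨?_, ?_, ?_, ?_, ?_, ?_, ?_⟩ <;> simp [Gens.φ, Gens.E, Gens.V, pw]

theorem Gens.gen_mem (g : Gens G) :
    g.z ∈ g.grp ∧ g.a ∈ g.grp ∧ g.b ∈ g.grp ∧ ∀ i, g.u i ∈ g.grp := by
  obtain ⟨e1, e2, e3, e4, e5, e6, e7⟩ := g.φ_gens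
  refine ⟨⟨16, by norm_num, e1⟩, ⟨32, by norm_num, e2⟩, ⟨64, by norm_num, e3⟩, fun i => ?_⟩
  fin_cases i
  exacts [⟨1, by norm_num, e4⟩, ⟨2, by norm_num, e5⟩, ⟨4, by norm_num, e6⟩, ⟨8, by norm_num, e7⟩]

/-- a group with a Sylow 2-subgroup of this shape -/
structure Ctx (G : Type u) [Group G] where
  S : Sylow 2 G
  g : Gens G
  faith : g.Faith
  grp : g.grp = (S : Subgroup G)

/-- any group with Sylow 2-subgroups like those of J₂ is of this shape -/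
theorem exists_ctx [Finite G] (S : Sylow 2 G) (P : Sylow 2 Cfsg.Spor.J2)
    (hS : Nonempty (↥(S : Subgroup G) ≃* ↥(P : Subgroup Cfsg.Spor.J2))) : ∃ K : Ctx G, K.S = S := by
  haveI : Fact (Nat.Prime 2) := ⟨Nat.prime_two⟩
  obtain ⟨g0, hg0, -, P0, hP0⟩ := j2_gens
  obtain ⟨e⟩ := hS
  let e2 : ↥g0.grp ≃* ↥(S : Subgroup G) :=
    (MulEquiv.subgroupCongr hP0.symm).trans ((Sylow.equiv P0 P).trans e.symm)
  obtain ⟨hz, ha, hb, hu⟩ := g0.gen_mem
  let gk := g0.restrict g0.grp hz ha hb hu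
  let f : ↥g0.grp →* G := (S : Subgroup G).subtype.comp e2.toMonoidHom
  have hfinj : Function.Injective f := (S : Subgroup G).subtype_injective.comp e2.injective
  have hres : ∀ n, ((gk.φ n : ↥g0.grp) : Cfsg.Spor.J2) = g0.φ n := fun n =>
    (gk.map_φ g0.grp.subtype n).symm
  have hfaith : (gk.map f).Faith := by
    intro n hn h
    rw [gk.map_φ] at h
    refine hg0 n hn ?_
    rw [← hres n, hfinj (h.trans (map_one f).symm)]
    rfl
  refine ⟨⟨S, gk.map f, hfaith, ?_⟩, rfl⟩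
  ext x
  constructor
  · rintro ⟨n, -, rfl⟩
    rw [gk.map_φ]
    exact (e2 (gk.φ n)).2
  · intro hx
    obtain ⟨y, hy⟩ := e2.surjective ⟨x, hx⟩
    obtain ⟨n, hn, hy'⟩ := y.2
    refine ⟨n, hn, ?_⟩
    rw [gk.map_φ, show gk.φ n = y from Subtype.ext ((hres n).trans hy')]
    exact congrArg Subtype.val hy

namespace Ctx

variable (K : Ctx G)

theorem exists_code {x : G} (hx : x ∈ (K.S : Subgroup G)) : ∃ n < 128, K.g.φ n = x := by
  rw [← K.grp] at hx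
  exact hx

theorem code_mem {n : ℕ} (hn : n < 128) : K.g.φ n ∈ (K.S : Subgroup G) := K.grp ▸ ⟨n, hn, rfl⟩

theorem comB_iff {m n : ℕ} (hm : m < 128) (hn : n < 128) :
    comB m n = true ↔ Commute (K.g.φ m) (K.g.φ n) := by
  show (mc m n == mc n m) = true ↔ K.g.φ m * K.g.φ n = K.g.φ n * K.g.φ m
  rw [beq_iff_eq, K.g.φ_mul m hm n hn, K.g.φ_mul n hn m hm]
  exact ⟨congrArg K.g.φ, K.faith.eq (mc_lt m hm n hn) (mc_lt n hn m hm)⟩

/-- commutation up to the centre -/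
def ComZ (x y : G) : Prop := x * y = y * x ∨ x * y = K.g.z * (y * x)

theorem comZ_iff {m n : ℕ} (hm : m < 128) (hn : n < 128) :
    comZ m n = true ↔ K.ComZ (K.g.φ m) (K.g.φ n) := by
  unfold comZ ComZ
  rw [Bool.or_eq_true, K.comB_iff hm hn, beq_iff_eq, ← K.g.φ_gens.1, K.g.φ_mul m hm n hn, K.g.φ_mul n hn m hm,
    K.g.φ_mul 16 (by norm_num) _ (mc_lt n hn m hm)]
  refine or_congr ?_ ⟨congrArg K.g.φ, K.faith.eq (mc_lt m hm n hn) (mc_lt _ (by norm_num [cz]) _ (mc_lt n hn m hm))⟩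
  show K.g.φ m * K.g.φ n = K.g.φ n * K.g.φ m ↔ _
  rw [K.g.φ_mul m hm n hn, K.g.φ_mul n hn m hm]

theorem sq_eq {m : ℕ} (hm : m < 128) : K.g.φ m * K.g.φ m = K.g.φ (sq m) := K.g.φ_mul m hm m hm

/-- the set of elements whose codes satisfy a test -/
def Coded (f : ℕ → Bool) (x : G) : Prop := ∃ n < 128, f n = true ∧ K.g.φ n = x

theorem coded_iff {f : ℕ → Bool} {n : ℕ} (hn : n < 128) : K.Coded f (K.g.φ n) ↔ f n = true :=
  ⟨fun ⟨_, hm, hf, e⟩ => K.faith.eq hm hn e ▸ hf, fun hf => ⟨n, hn, hf, rfl⟩⟩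

/-- a subgroup from a test -/
def sub (f : ℕ → Bool) (h0 : f 0 = true)
    (hm : ∀ x < 128, ∀ y < 128, f x = true → f y = true → f (mc x y) = true)
    (hi : ∀ x < 128, ∀ y < 128, f x = true → mc x y = 0 → f y = true) : Subgroup G where
  carrier := {x | K.Coded f x}
  one_mem' := ⟨0, by norm_num, h0, K.g.φ_zero⟩
  mul_mem' := by
    rintro _ _ ⟨n, hn, hfn, rfl⟩ ⟨m, hm', hfm, rfl⟩
    exact ⟨mc n m, mc_lt n hn m hm', hm n hn m hm' hfn hfm, (K.g.φ_mul n hn m hm').symm⟩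
  inv_mem' := by
    rintro _ ⟨n, hn, hfn, rfl⟩
    obtain ⟨m, hm', e⟩ := exists_inv n hn
    refine ⟨m, hm', hi n hn m hm' hfn e, eq_inv_of_mul_eq_one_right ?_⟩
    rw [K.g.φ_mul n hn m hm', e, K.g.φ_zero]

theorem inQ_closed : ∀ x < 128, ∀ y < 128, inQ x = true → (inQ y = true → inQ (mc x y) = true) ∧
    (mc x y = 0 → inQ y = true) := by decide +kernel
theorem inA_closed : ∀ x < 128, ∀ y < 128, inA x = true → (inA y = true → inA (mc x y) = true) ∧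
    (mc x y = 0 → inA y = true) := by decide +kernel
theorem inZA_closed : ∀ x < 128, ∀ y < 128, inZA x = true → (inZA y = true → inZA (mc x y) = true) ∧
    (mc x y = 0 → inZA y = true) := by decide +kernel
theorem inP1_closed : ∀ x < 128, ∀ y < 128, inP1 x = true → (inP1 y = true → inP1 (mc x y) = true) ∧
    (mc x y = 0 → inP1 y = true) := by decide +kernel
theorem inZ_closed : ∀ x < 128, ∀ y < 128, inZ x = true → (inZ y = true → inZ (mc x y) = true) ∧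
    (mc x y = 0 → inZ y = true) := by decide +kernel

/-- the core `Q` -/
def Q : Subgroup G := K.sub inQ rfl (fun x hx y hy h => (inQ_closed x hx y hy h).1)
  (fun x hx y hy h => (inQ_closed x hx y hy h).2)

/-- the subgroup `A` of order 64 with centre of order 4 -/
def A : Subgroup G := K.sub inA rfl (fun x hx y hy h => (inA_closed x hx y hy h).1)
  (fun x hx y hy h => (inA_closed x hx y hy h).2)

/-- the centre of `A` -/
def ZA : Subgroup G := K.sub inZA rfl (fun x hx y hy h => (inZA_closed x hx y hy h).1)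
  (fun x hx y hy h => (inZA_closed x hx y hy h).2)

/-- the preimage of a second four-subgroup -/
def P1 : Subgroup G := K.sub inP1 rfl (fun x hx y hy h => (inP1_closed x hx y hy h).1)
  (fun x hx y hy h => (inP1_closed x hx y hy h).2)

/-- the central subgroup -/
def Z : Subgroup G := K.sub inZ rfl (fun x hx y hy h => (inZ_closed x hx y hy h).1)
  (fun x hx y hy h => (inZ_closed x hx y hy h).2)

/-- `p = u₀u₁u₂u₃` -/
def p : G := K.g.φ cp

/-- the involution moved into `A` -/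
def uu : G := K.g.φ 1

theorem le_S {f : ℕ → Bool} {h0 hm hi} : K.sub f h0 hm hi ≤ (K.S : Subgroup G) :=
  fun _ ⟨_, hn, _, e⟩ => e ▸ K.code_mem hn

theorem Q_le : K.Q ≤ (K.S : Subgroup G) := K.le_S
theorem A_le : K.A ≤ (K.S : Subgroup G) := K.le_S
theorem ZA_le : K.ZA ≤ (K.S : Subgroup G) := K.le_S
theorem P1_le : K.P1 ≤ (K.S : Subgroup G) := K.le_S

theorem z_mem_Z : K.g.z ∈ K.Z := ⟨16, by norm_num, rfl, K.g.φ_gens.1⟩

theorem Z_iff {x : G} : x ∈ K.Z ↔ x = 1 ∨ x = K.g.z := by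
  constructor
  · rintro ⟨n, -, hf, rfl⟩
    simp only [inZ, cz, Bool.or_eq_true, beq_iff_eq] at hf
    rcases hf with rfl | rfl
    exacts [Or.inl K.g.φ_zero, Or.inr K.g.φ_gens.1]
  · rintro (rfl | rfl)
    exacts [K.Z.one_mem, K.z_mem_Z]

theorem z_ne : K.g.z ≠ 1 := fun e => absurd (K.faith 16 (by norm_num) (K.g.φ_gens.1.trans e)) (by norm_num)

theorem Z_le_ZA : K.Z ≤ K.ZA := fun _ ⟨n, hn, hf, e⟩ => ⟨n, hn, by simp [inZA, hf], e⟩

theorem Z_le_Q : K.Z ≤ K.Q := fun _ hx => by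
  obtain ⟨n, hn, hf, e⟩ := hx
  refine ⟨n, hn, ?_, e⟩
  simp only [inZ, cz, Bool.or_eq_true, beq_iff_eq] at hf
  rcases hf with rfl | rfl <;> rfl

theorem card_of (f : ℕ → Bool) {R : Subgroup G} (hR : ∀ x, x ∈ R ↔ K.Coded f x) :
    Nat.card R = ((List.range 128).filter f).length := by
  let g : {n : ℕ // n ∈ ((List.range 128).filter f).toFinset} → R := fun n =>
    ⟨K.g.φ n, (hR _).2 ⟨n, by simpa using (List.mem_filter.1 (List.mem_toFinset.1 n.2)).1,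
      (List.mem_filter.1 (List.mem_toFinset.1 n.2)).2, rfl⟩⟩
  have hg : Function.Bijective g := by
    refine ⟨fun a b e => Subtype.ext (K.faith.eq ?_ ?_ (congrArg Subtype.val e :)), fun ⟨x, hx⟩ => ?_⟩
    · simpa using (List.mem_filter.1 (List.mem_toFinset.1 a.2)).1
    · simpa using (List.mem_filter.1 (List.mem_toFinset.1 b.2)).1
    · obtain ⟨n, hn, hf, e⟩ := (hR x).1 hx
      exact ⟨⟨n, List.mem_toFinset.2 (List.mem_filter.2 ⟨List.mem_range.2 hn, hf⟩)⟩, Subtype.ext e⟩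
  rw [← Nat.card_congr (Equiv.ofBijective g hg), Nat.card_eq_finsetCard,
    List.toFinset_card_of_nodup (List.nodup_range.filter _)]

theorem card_S : Nat.card (K.S : Subgroup G) = 128 := by
  rw [K.card_of (fun _ => true) (R := (K.S : Subgroup G))
    fun x => ⟨fun hx => (K.exists_code hx).imp fun n h => ⟨h.1, rfl, h.2⟩, fun ⟨_, hn, _, e⟩ => e ▸ K.code_mem hn⟩]
  rfl

theorem card_facts : Nat.card K.Q = 32 ∧ Nat.card K.A = 64 ∧ Nat.card K.ZA = 4 ∧ Nat.card K.P1 = 16 ∧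
    Nat.card K.Z = 2 ∧ Nat.card ↥(K.Q ⊓ K.A) = 16 := by
  refine ⟨K.card_of inQ fun _ => Iff.rfl, (K.card_of inA fun _ => Iff.rfl).trans inA_card,
    K.card_of inZA fun _ => Iff.rfl, (K.card_of inP1 fun _ => Iff.rfl).trans P1_facts.1,
    K.card_of inZ fun _ => Iff.rfl, (K.card_of (fun n => inQ n && inA n) fun x => ?_).trans (by decide +kernel)⟩
  constructor
  · rintro ⟨⟨n, hn, hq, rfl⟩, hA⟩
    exact ⟨n, hn, by rw [Bool.and_eq_true]; exact ⟨hq, (K.coded_iff hn).1 hA⟩, rfl⟩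
  · rintro ⟨n, hn, hf, rfl⟩
    rw [Bool.and_eq_true] at hf
    exact ⟨⟨n, hn, hf.1, rfl⟩, ⟨n, hn, hf.2, rfl⟩⟩

theorem central {x : G} (hx : x ∈ (K.S : Subgroup G)) (h : ∀ y ∈ (K.S : Subgroup G), Commute x y) : x ∈ K.Z := by
  obtain ⟨n, hn, rfl⟩ := K.exists_code hx
  refine ⟨n, hn, ?_, rfl⟩
  rw [← center_facts n hn, List.all_eq_true]
  intro m hm
  exact (K.comB_iff hn (List.mem_range.1 hm)).2 (h _ (K.code_mem (List.mem_range.1 hm)))

theorem z_central {y : G} (hy : y ∈ (K.S : Subgroup G)) : Commute K.g.z y := by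
  obtain ⟨n, hn, rfl⟩ := K.exists_code hy
  rw [← K.g.φ_gens.1, ← K.comB_iff (by norm_num) hn]
  have key : ∀ n < 128, comB 16 n = true := by decide +kernel
  exact key n hn

theorem Q_sq {x : G} (hx : x ∈ K.Q) : x * x ∈ K.Z ∧ ∀ y ∈ K.Q, K.ComZ x y := by
  obtain ⟨n, hn, hf, rfl⟩ := hx
  refine ⟨⟨sq n, mc_lt n hn n hn, (core_facts n hn hf).1, (K.sq_eq hn).symm⟩, ?_⟩
  rintro _ ⟨m, hm, hf', rfl⟩
  exact (K.comZ_iff hn hm).1 ((core_facts n hn hf).2 m hm hf')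

theorem Q_comm {x y : G} (hx : x ∈ (K.S : Subgroup G)) (hy : y ∈ (K.S : Subgroup G)) :
    (y * x)⁻¹ * (x * y) ∈ K.Q := by
  obtain ⟨n, hn, rfl⟩ := K.exists_code hx
  obtain ⟨m, hm, rfl⟩ := K.exists_code hy
  have h1 : ∀ a < 128, ∀ b < 128, ∀ c < 128, mc a b = c → Nat.xor (a / 32) (b / 32) = c / 32 :=
    fun a ha b hb c _ e => e ▸ (mc_top a ha b hb).symm
  rw [K.g.φ_mul n hn m hm, K.g.φ_mul m hm n hn]
  obtain ⟨k, hk, e⟩ := exists_inv _ (mc_lt m hm n hn)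
  rw [show (K.g.φ (mc m n))⁻¹ = K.g.φ k from inv_eq_of_mul_eq_one_right
    (by rw [K.g.φ_mul _ (mc_lt m hm n hn) k hk, e, K.g.φ_zero]), K.g.φ_mul k hk _ (mc_lt n hn m hm)]
  refine (K.coded_iff (mc_lt k hk _ (mc_lt n hn m hm))).2 ?_
  have h2 := mc_top k hk _ (mc_lt n hn m hm)
  have h3 := mc_top n hn m hm
  have h4 := mc_top m hm n hn
  have h5 := mc_top _ (mc_lt m hm n hn) k hk
  rw [e] at h5
  rw [h3] at h2
  rw [h4] at h5
  have key : ∀ a < 4, ∀ b < 4, ∀ c < 4, 0 / 32 = Nat.xor (Nat.xor b a) c → Nat.xor c (Nat.xor a b) = 0 := by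
    decide +kernel
  rw [key _ (by omega) _ (by omega) _ (by omega) h5] at h2
  simp only [inQ, decide_eq_true_eq]
  omega

theorem core_eq {R : Subgroup G} (hR : R ≤ (K.S : Subgroup G)) (hcard : Nat.card R = 32)
    (hsq : ∀ x ∈ R, x * x ∈ K.Z) (hcom : ∀ x ∈ R, ∀ y ∈ R, K.ComZ x y) [Finite G] : R = K.Q := by
  refine Subgroup.eq_of_le_of_card_ge (fun x hx => ?_) (by rw [K.card_facts.1, hcard])
  obtain ⟨n, hn, rfl⟩ := K.exists_code (hR hx)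
  refine (K.coded_iff hn).2 ?_
  by_contra hq
  rw [Bool.not_eq_true] at hq
  have hsn : inZ (sq n) = true :=
    (K.coded_iff (mc_lt n hn n hn)).1 (show K.Coded inZ (K.g.φ (sq n)) by rw [← K.sq_eq hn]; exact hsq _ hx)
  have hlt := core_unique n hn hq hsn
  let L : List ℕ := (List.range 128).filter fun y => inZ (sq y) && comZ n y
  have hinj : Nat.card R ≤ L.toFinset.card := by
    have hmem : ∀ y : R, ∃ m : {m // m ∈ L.toFinset}, K.g.φ m = y := by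
      rintro ⟨y, hy⟩
      obtain ⟨m, hm, rfl⟩ := K.exists_code (hR hy)
      refine ⟨⟨m, List.mem_toFinset.2 (List.mem_filter.2 ⟨List.mem_range.2 hm, ?_⟩)⟩, rfl⟩
      rw [Bool.and_eq_true]
      exact ⟨(K.coded_iff (mc_lt m hm m hm)).1 (show K.Coded inZ (K.g.φ (sq m)) by
        rw [← K.sq_eq hm]; exact hsq _ hy), (K.comZ_iff hn hm).2 (hcom _ hx _ hy)⟩
    choose f hf using hmem
    rw [← Nat.card_eq_finsetCard]
    exact Nat.card_le_card_of_injective f fun a b e => Subtype.ext (by rw [← hf a, ← hf b, e])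
  exact absurd (hcard ▸ hinj.trans (List.toFinset_card_le L)) (not_le.2 hlt)

theorem big_eq [Finite G] {R : Subgroup G} (hR : R ≤ (K.S : Subgroup G)) (hcard : Nat.card R = 64) {w : G}
    (hwS : w ∈ (K.S : Subgroup G)) (hw : w ∉ K.Z) (hcom : ∀ y ∈ R, Commute w y) : R = K.A := by
  refine Subgroup.eq_of_le_of_card_ge (fun x hx => ?_) (by rw [K.card_facts.2.1, hcard])
  obtain ⟨m, hm, rfl⟩ := K.exists_code hwS
  obtain ⟨n, hn, rfl⟩ := K.exists_code (hR hx)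
  have hzm : inZ m = false := by
    rw [← Bool.not_eq_true]
    exact fun h => hw ((K.coded_iff hm).2 h)
  have h64 : 64 ≤ ((List.range 128).filter fun y => comB m y).length := by
    rw [← K.card_of (fun y => comB m y) (R := (K.S : Subgroup G) ⊓ Subgroup.centralizer ({K.g.φ m} : Set G))
      fun y => ?_]
    · rw [← hcard]
      exact Subgroup.card_le_of_le fun y hy =>
        ⟨hR hy, Subgroup.mem_centralizer_singleton_iff.2 (hcom y hy).symm.eq⟩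
    · constructor
      · rintro ⟨hyS, hyC⟩
        obtain ⟨k, hk, rfl⟩ := K.exists_code hyS
        exact ⟨k, hk, (K.comB_iff hm hk).2 (Subgroup.mem_centralizer_singleton_iff.1 hyC).symm, rfl⟩
      · rintro ⟨k, hk, hc, rfl⟩
        exact ⟨K.code_mem hk, Subgroup.mem_centralizer_singleton_iff.2 ((K.comB_iff hm hk).1 hc).symm.eq⟩
  exact (K.coded_iff hn).2 (big_cent m hm hzm h64 n hn ▸ (K.comB_iff hm hn).2 (hcom _ hx))

theorem p_facts : K.p ∈ K.ZA ∧ K.p ∈ K.A ∧ K.p ∈ K.Q ∧ K.p * K.p = 1 ∧ K.p ∉ K.Z :=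
  ⟨⟨cp, by decide, rfl, rfl⟩, ⟨cp, by decide, rfl, rfl⟩, ⟨cp, by decide, rfl, rfl⟩,
    (K.sq_eq (by decide : cp < 128)).trans K.g.φ_zero,
    fun h => absurd ((K.coded_iff (f := inZ) (by decide : cp < 128)).1 h) (by decide)⟩

theorem ZA_iff {x : G} : x ∈ K.ZA ↔ x = 1 ∨ x = K.g.z ∨ x = K.p ∨ x = K.p * K.g.z := by
  have hpz : K.p * K.g.z = K.g.φ 31 := by
    rw [← K.g.φ_gens.1]; exact K.g.φ_mul cp (by decide) 16 (by norm_num)
  constructor
  · rintro ⟨n, -, hf, rfl⟩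
    simp only [inZA, inZ, cp, cz, Bool.or_eq_true, beq_iff_eq] at hf
    rcases hf with ((rfl | rfl) | rfl) | rfl
    exacts [Or.inl K.g.φ_zero, Or.inr (Or.inl K.g.φ_gens.1), Or.inr (Or.inr (Or.inl rfl)),
      Or.inr (Or.inr (Or.inr hpz.symm))]
  · rintro (rfl | rfl | rfl | rfl)
    exacts [K.ZA.one_mem, K.Z_le_ZA K.z_mem_Z, K.p_facts.1,
      K.ZA.mul_mem K.p_facts.1 (K.Z_le_ZA K.z_mem_Z)]

theorem A_iff {x : G} : x ∈ K.A ↔ x ∈ (K.S : Subgroup G) ∧ Commute x K.p := by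
  constructor
  · rintro ⟨n, hn, hf, rfl⟩
    exact ⟨K.code_mem hn, (K.comB_iff hn (by decide)).1 hf⟩
  · rintro ⟨hx, hc⟩
    obtain ⟨n, hn, rfl⟩ := K.exists_code hx
    exact (K.coded_iff hn).2 ((K.comB_iff hn (by decide)).2 hc)

theorem ZA_facts {x : G} (hx : x ∈ K.ZA) : x ∈ K.A ∧ x ∈ K.Q ∧ x * x = 1 ∧ ∀ y ∈ K.A, Commute x y := by
  obtain ⟨n, hn, hf, rfl⟩ := hx
  obtain ⟨h1, h2, h3, h4⟩ := za_facts n hn hf
  refine ⟨⟨n, hn, h1, rfl⟩, ⟨n, hn, h2, rfl⟩, by rw [K.sq_eq hn, h3, K.g.φ_zero], ?_⟩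
  rintro _ ⟨m, hm, hm', rfl⟩
  exact (K.comB_iff hn hm).1 (h4 m hm hm')

theorem sq_invol_mem {x : G} (hx : x ∈ (K.S : Subgroup G)) (h : x * x * (x * x) = 1) : x * x ∈ K.ZA := by
  obtain ⟨n, hn, rfl⟩ := K.exists_code hx
  have hs := mc_lt n hn n hn
  rw [K.sq_eq hn, K.sq_eq (show sq n < 128 from hs)] at h
  rw [K.sq_eq hn]
  exact (K.coded_iff (show sq n < 128 from hs)).2 (sq_invol n hn (K.faith _ (mc_lt _ hs _ hs) h))

theorem invol_AQ_mem {x : G} (hA : x ∈ K.A) (hQ : x ∈ K.Q) (h : x * x = 1) : x ∈ K.ZA := by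
  obtain ⟨n, hn, hf, rfl⟩ := hA
  rw [K.sq_eq hn] at h
  exact (K.coded_iff hn).2 (invol_AQ n hn hf ((K.coded_iff hn).1 hQ) (K.faith _ (mc_lt n hn n hn) h))

theorem uu_facts : K.uu ∈ K.Q ∧ K.uu ∉ K.A ∧ K.uu * K.uu = 1 ∧
    ∃ q ∈ (K.S : Subgroup G), Commute K.uu q ∧ q * q = K.g.z := by
  obtain ⟨h1, h2, h3, q, hq, h4, h5⟩ := u_facts
  refine ⟨⟨1, by norm_num, h1, rfl⟩, fun h => ?_, ?_, K.g.φ q, K.code_mem hq, (K.comB_iff (by norm_num) hq).1 h4, ?_⟩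
  · have := (K.coded_iff (f := inA) (by norm_num : 1 < 128)).1 h
    rw [h2] at this
    exact Bool.noConfusion this
  · show K.g.φ 1 * K.g.φ 1 = 1
    rw [K.sq_eq (by norm_num), h3, K.g.φ_zero]
  · rw [K.sq_eq hq, h5]
    exact K.g.φ_gens.1

theorem outer_pair {t : G} (ht : t ∈ (K.S : Subgroup G)) (htQ : t ∉ K.Q) (htt : t * t ∈ K.Z) :
    ∃ y ∈ (K.S : Subgroup G), ∃ y' ∈ (K.S : Subgroup G), K.ComZ t y ∧ K.ComZ t y' ∧
      (y * y' = y' * y * K.p ∨ y * y' = y' * y * (K.p * K.g.z)) := by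
  obtain ⟨n, hn, rfl⟩ := K.exists_code ht
  have h1 : inQ n = false := by
    rw [← Bool.not_eq_true]
    exact fun h => htQ ((K.coded_iff hn).2 h)
  have h2 : inZ (sq n) = true :=
    (K.coded_iff (mc_lt n hn n hn)).1 (show K.Coded inZ (K.g.φ (sq n)) by rw [← K.sq_eq hn]; exact htt)
  obtain ⟨y, hy, hty, y', hy', hty', e⟩ := outer_comm n hn h1 h2
  refine ⟨_, K.code_mem hy, _, K.code_mem hy', (K.comZ_iff hn hy).1 hty, (K.comZ_iff hn hy').1 hty', ?_⟩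
  have hpz : K.p * K.g.z = K.g.φ (cp + cz) := by
    rw [← K.g.φ_gens.1]; exact K.g.φ_mul cp (by decide) 16 (by norm_num)
  rw [K.g.φ_mul y hy y' hy', K.g.φ_mul y' hy' y hy, hpz]
  rcases e with e | e <;> rw [e]
  · exact Or.inl (K.g.φ_mul _ (mc_lt y' hy' y hy) cp (by decide)).symm
  · exact Or.inr (K.g.φ_mul _ (mc_lt y' hy' y hy) (cp + cz) (by decide)).symm

theorem Q_in_A {x : G} (hx : x ∈ K.A) : x ∈ K.Q ↔ x ∈ K.ZA ∨ x * x = K.g.z := by
  obtain ⟨n, hn, hf, rfl⟩ := hx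
  have h := core_in_A n hn hf
  rw [K.sq_eq hn, ← K.g.φ_gens.1]
  constructor
  · intro hq
    rw [(K.coded_iff hn).1 hq, eq_comm, Bool.or_eq_true, beq_iff_eq] at h
    exact h.imp (K.coded_iff hn).2 (congrArg K.g.φ)
  · intro hor
    refine (K.coded_iff hn).2 ?_
    rw [h, Bool.or_eq_true, beq_iff_eq]
    exact hor.imp (K.coded_iff hn).1 (K.faith.eq (mc_lt n hn n hn) (by decide))

theorem P1_iff {x : G} : x ∈ K.P1 ↔ x ∈ K.A ∧ (x ∈ K.ZA ∨ x * x = K.p) := by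
  constructor
  · rintro ⟨n, hn, hf, rfl⟩
    simp only [inP1, Bool.and_eq_true, Bool.or_eq_true, beq_iff_eq] at hf
    refine ⟨⟨n, hn, hf.1, rfl⟩, hf.2.imp (K.coded_iff hn).2 fun e => ?_⟩
    rw [K.sq_eq hn, e]
    rfl
  · rintro ⟨hA, hor⟩
    obtain ⟨n, hn, hf, rfl⟩ := hA
    refine (K.coded_iff hn).2 ?_
    simp only [inP1, Bool.and_eq_true, Bool.or_eq_true, beq_iff_eq]
    refine ⟨hf, hor.imp (K.coded_iff hn).1 fun e => ?_⟩
    rw [K.sq_eq hn] at e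
    exact K.faith.eq (mc_lt n hn n hn) (by decide) e

theorem A_sq {x : G} (hx : x ∈ K.A) : x * x ∈ K.ZA ∧ ∀ y ∈ K.A, x * y * x⁻¹ * y⁻¹ ∈ K.ZA := by
  obtain ⟨n, hn, hf, rfl⟩ := hx
  refine ⟨by rw [K.sq_eq hn]; exact (K.coded_iff (mc_lt n hn n hn)).2 (A_facts n hn hf).1, ?_⟩
  rintro y hy
  obtain ⟨m, hm, hf', rfl⟩ := hy
  obtain ⟨-, c, hc, e⟩ := (A_facts n hn hf).2 m hm hf'
  have hc128 : c < 128 ∧ inZA c = true := by
    simp only [cz, cp, List.mem_cons, List.not_mem_nil, or_false] at hc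
    rcases hc with rfl | rfl | rfl | rfl <;> exact ⟨by norm_num, rfl⟩
  have hcm : K.g.φ c ∈ K.ZA := ⟨c, hc128.1, hc128.2, rfl⟩
  have e' : K.g.φ n * K.g.φ m = K.g.φ m * K.g.φ n * K.g.φ c := by
    rw [K.g.φ_mul n hn m hm, K.g.φ_mul m hm n hn, K.g.φ_mul _ (mc_lt m hm n hn) c hc128.1, e]
  have hcc := (K.ZA_facts hcm).2.2.2
  rw [e', show K.g.φ m * K.g.φ n * K.g.φ c = K.g.φ c * (K.g.φ m * K.g.φ n) from
    ((hcc _ (K.A.mul_mem ⟨m, hm, hf', rfl⟩ ⟨n, hn, hf, rfl⟩)).eq).symm]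
  simpa [mul_assoc] using hcm

theorem A_split {x : G} (hx : x ∈ K.A) : ∃ y ∈ K.P1, ∃ w ∈ K.Q, w ∈ K.A ∧ x = y * w := by
  obtain ⟨n, hn, hf, rfl⟩ := hx
  obtain ⟨y, hy, h1, h2⟩ := A_product n hn hf
  have hy' : K.g.φ y ∈ K.P1 := ⟨y, hy, h1, rfl⟩
  refine ⟨(K.g.φ y)⁻¹, K.P1.inv_mem hy', K.g.φ y * K.g.φ n, ⟨mc y n, mc_lt y hy n hn, h2, (K.g.φ_mul y hy n hn).symm⟩,
    K.A.mul_mem ((K.P1_iff).1 hy').1 ⟨n, hn, hf, rfl⟩, by group⟩

theorem P1_inter {x : G} (hx : x ∈ K.P1) (hQ : x ∈ K.Q) : x ∈ K.ZA := by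
  obtain ⟨n, hn, hf, rfl⟩ := hx
  exact (K.coded_iff hn).2 ((P1_facts.2 n hn hf).1 ((K.coded_iff hn).1 hQ))

theorem cent_AQ {x : G} (hx : x ∈ K.A) (h : ∀ y ∈ K.Q, y ∈ K.A → Commute x y) : x ∈ K.ZA := by
  obtain ⟨n, hn, hf, rfl⟩ := hx
  exact (K.coded_iff hn).2 (cent_P0 n hn hf fun m hm hA hQ =>
    (K.comB_iff hn hm).2 (h _ ⟨m, hm, hQ, rfl⟩ ⟨m, hm, hA, rfl⟩))

theorem cent_P1_mem {x : G} (hx : x ∈ K.A) (h : ∀ y ∈ K.P1, Commute x y) : x ∈ K.ZA := by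
  obtain ⟨n, hn, hf, rfl⟩ := hx
  exact (K.coded_iff hn).2 (cent_P1 n hn hf fun m hm hP => (K.comB_iff hn hm).2 (h _ ⟨m, hm, hP, rfl⟩))

end Ctx

end Cfsg.Agent.Lie.JankoSylow
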